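import Groth.Agent.FunFld.K661.Over
import Groth.Agent.FunFld.K659.IntCl

/-!
# Places above a place in a finite extension of a function field

`K` finite over `k(t)` for some transcendental `t` (`IsGen`), `K'/K` finite (separable or not, the
constant fields of `K` and `K'` may be bigger than `k`).
The versions with a dash take `hK : IsFunctionField k K`.
-/

set_option autoImplicit false
set_option linter.unusedSectionVars false
open FunFld IsDedekindDomain K661.Place K661.Over K660.Places

namespace K661.OverFF

section Alg

variable {k K : Type*} [Field k] [Field K] [Algebra k K]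

/-- The algebra structure of `K'` over `P.O`. -/
@[reducible] noncomputable def algO (P : Place k K) (K' : Type*) [Field K'] [Algebra K K'] :
    Algebra P.O K' := ((algebraMap K K').comp (algebraMap P.O K)).toAlgebra

theorem towerO (P : Place k K) (K' : Type*) [Field K'] [Algebra K K'] :
    let := algO P K'
    IsScalarTower P.O K K' :=
  let := algO P K'
  IsScalarTower.of_algebraMap_eq fun _ => rfl

end Alg

variable {k K K' : Type*} [Field k] [Field K] [Field K'] [Algebra k K] [Algebra K K']
  [Algebra k K'] [IsScalarTower k K K'] [FiniteDimensional K K']

/-- A finite extension of a function field is generated by the same element. -/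
theorem isGen_algebraMap {t : K} (h : IsGen k K t) : IsGen k K' (algebraMap K K' t) := by
  have h1 : Transcendental k (algebraMap K K' t) := by
    intro h2
    apply h.tr
    exact (isAlgebraic_algebraMap_iff (algebraMap K K').injective).1 h2
  have := h.fin
  let e := IntermediateField.equivMap (IntermediateField.adjoin k {t})
    (IsScalarTower.toAlgHom k K K')
  have h3 : (IntermediateField.adjoin k {t}).map (IsScalarTower.toAlgHom k K K') =
      IntermediateField.adjoin k {algebraMap K K' t} := by
    rw [IntermediateField.adjoin_map]
    simp
  refine ⟨h1, ?_⟩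
  rw [← h3]
  -- `K'` is finite over `k(t)`
  have h4 : FiniteDimensional (IntermediateField.adjoin k {t}) K' :=
    FiniteDimensional.trans (IntermediateField.adjoin k {t}) K K'
  obtain ⟨s, hs⟩ := Module.finite_def.1 h4
  refine Module.finite_def.2 ⟨s, ?_⟩
  rw [eq_top_iff]
  intro x _
  have hx : x ∈ Submodule.span (IntermediateField.adjoin k {t}) (s : Set K') := by
    rw [hs]
    exact Submodule.mem_top
  induction hx using Submodule.span_induction with
  | mem x hx => exact Submodule.subset_span hx
  | zero => exact Submodule.zero_mem _
  | add x y _ _ hx hy => exact Submodule.add_mem _ (hx Submodule.mem_top) (hy Submodule.mem_top)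
  | smul a x _ hx =>
    have h5 : a • x = (e a) • x := by
      rw [Algebra.smul_def, Algebra.smul_def]
      rfl
    rw [h5]
    exact Submodule.smul_mem _ _ (hx Submodule.mem_top)

variable (hG : ∃ t : K, IsGen k K t)

include hG in
theorem finite_O (P : Place k K) [Algebra P.O K']
    [IsScalarTower P.O K K'] : Module.Finite P.O (integralClosure P.O K') := by
  obtain ⟨t, ht⟩ := hG
  exact K659.IntCl.finite_integralClosure ht P K'

include hG in
/-- Finitely many places above a place. -/
theorem finite_over (P : Place k K) :
    {Q : Place k K' | IsOver Q P}.Finite := by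
  let := algO P K'
  have := towerO P K'
  have hf := finite_O (K' := K') hG P
  have := isDedekind P hf
  exact Over.finite_over P

include hG in
/-- At least one place above a place. -/
theorem exists_over (P : Place k K) :
    ∃ Q : Place k K', IsOver Q P := by
  let := algO P K'
  have := towerO P K'
  have hf := finite_O (K' := K') hG P
  have := isDedekind P hf
  exact Over.exists_over P

include hG in
/-- `∑ e f = n`. -/
theorem sum_ramIdx_mul_deg (P : Place k K)
    (Qs : Finset (Place k K')) (hQs : ∀ Q, Q ∈ Qs ↔ IsOver Q P) :
    (∑ Q ∈ Qs, ramIdx Q P * Q.deg) = Module.finrank K K' * P.deg := by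
  let := algO P K'
  have := towerO P K'
  have hf := finite_O (K' := K') hG P
  have := isDedekind P hf
  exact Over.sum_eq P Qs hQs

include hG in
/-- The residue degree is a multiple of the residue degree below. -/
theorem exists_deg_eq {Q : Place k K'} {P : Place k K}
    (h : IsOver Q P) : ∃ f : ℕ, 0 < f ∧ Q.deg = f * P.deg := by
  let := algO P K'
  have := towerO P K'
  have hf := finite_O (K' := K') hG P
  have := isDedekind P hf
  obtain ⟨q, rfl⟩ := exists_placeOf P h
  have := q.isPrime
  exact ⟨_, Ideal.inertiaDeg_pos q.asIdeal P.O, deg_placeOf P q⟩

variable (hK : IsFunctionField k K)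

include hK in
theorem finite_over' (P : Place k K) : {Q : Place k K' | IsOver Q P}.Finite :=
  finite_over (exists_isGen hK) P

include hK in
theorem exists_over' (P : Place k K) : ∃ Q : Place k K', IsOver Q P :=
  exists_over (exists_isGen hK) P

include hK in
theorem sum_ramIdx_mul_deg' (P : Place k K)
    (Qs : Finset (Place k K')) (hQs : ∀ Q, Q ∈ Qs ↔ IsOver Q P) :
    (∑ Q ∈ Qs, ramIdx Q P * Q.deg) = Module.finrank K K' * P.deg :=
  sum_ramIdx_mul_deg (exists_isGen hK) P Qs hQs

include hK in
theorem exists_deg_eq' {Q : Place k K'} {P : Place k K}
    (h : IsOver Q P) : ∃ f : ℕ, 0 < f ∧ Q.deg = f * P.deg :=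
  exists_deg_eq (exists_isGen hK) h

end K661.OverFF
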