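import Groth.Prelude.Def_W4bk4goldsch23FF
import Groth.Prelude.Def_W4bk4goldsch23Ext
import Groth.Agent.MiscA.WCDedekind
import Mathlib.RingTheory.Valuation.Discrete.Basic
import Mathlib.RingTheory.Algebraic.Integral
import Mathlib.RingTheory.Valuation.ValuationRing
import Mathlib.RingTheory.Valuation.Integral
import Mathlib.RingTheory.Valuation.LocalSubring
import Mathlib.GroupTheory.Archimedean

/-!
# Places and their restriction to a subfield (`FunFld.Place`)

Everything here is for arbitrary field extensions `k → K → K'`.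

* `exists_unif`, `isDVR`, `O_ne_top`, `ext_O`, `ofVal`, `mem_of_isIntegral`;
* `IsOverWith.pos/unique`, `ramIdx_eq`, `isOverWith_ramIdx`, `comap_O`, `below_unique`,
  `exists_below` (every place of `K'` restricts to a place of `K` if `K'/K` is algebraic), `isOver_iff_comap`,
  `isOver_iff_forall`, `isOver_trans`, `ramIdx_mul`.
-/

set_option autoImplicit false
open WithZero FunFld

namespace K661.Place

variable {k K : Type*} [Field k] [Field K] [Algebra k K]

theorem exists_unif (P : Place k K) : ∃ π : K, P.1 π = exp (-1 : ℤ) := P.2.2 _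

theorem val_const_le (P : Place k K) (c : k) : P.1 (algebraMap k K c) ≤ 1 := P.2.1 c

theorem val_ne_zero (P : Place k K) {x : K} (hx : x ≠ 0) : P.1 x ≠ 0 := by simpa using hx

theorem val_eq_exp (P : Place k K) {x : K} (hx : x ≠ 0) : P.1 x = exp (-(P.ord x)) := by
  rw [Place.ord, neg_neg, exp_log (val_ne_zero P hx)]

theorem mem_O {P : Place k K} {x : K} : x ∈ P.O ↔ P.1 x ≤ 1 := Iff.rfl

theorem surj_of_unif {F : Type*} [Field F] {v : Valuation F ℤᵐ⁰} (h : ∃ π, v π = exp (-1 : ℤ)) :
    Function.Surjective v := by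
  obtain ⟨π, hπ⟩ := h
  intro z
  by_cases hz : z = 0
  · exact ⟨0, by simp [hz]⟩
  · refine ⟨π ^ (-(log z)), ?_⟩
    rw [map_zpow₀, hπ, ← exp_zsmul]
    conv_rhs => rw [← exp_log hz]
    congr 1
    simp

/-- The place given by a normalized valuation. -/
def ofVal (v : Valuation K ℤᵐ⁰) (hk : ∀ c : k, v (algebraMap k K c) ≤ 1)
    (hv : ∃ π, v π = exp (-1 : ℤ)) : Place k K :=
  ⟨v, hk, surj_of_unif hv⟩

@[simp] theorem ofVal_val (v : Valuation K ℤᵐ⁰) (hk : ∀ c : k, v (algebraMap k K c) ≤ 1)
    (hv : ∃ π, v π = exp (-1 : ℤ)) : (ofVal v hk hv).1 = v := rfl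

theorem ext_le {P Q : Place k K} (h : ∀ x, P.1 x ≤ 1 ↔ Q.1 x ≤ 1) : P = Q :=
  Subtype.ext (Groth.Agent.MiscA.WCDedekind.valuation_ext (exists_unif P) (exists_unif Q) h)

theorem ext_O {P Q : Place k K} (h : P.O = Q.O) : P = Q := by
  refine ext_le fun x => ?_
  have := SetLike.ext_iff.1 h x
  exact this

theorem isEquiv_iff_eq {P Q : Place k K} : P.1.IsEquiv Q.1 ↔ P = Q := by
  constructor
  · intro h
    exact ext_le fun x => h.le_one_iff_le_one
  · rintro rfl
    exact Valuation.IsEquiv.refl

theorem O_ne_top (P : Place k K) : P.O ≠ ⊤ := by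
  intro h
  obtain ⟨π, hπ⟩ := exists_unif P
  have h3 : π⁻¹ ∈ P.O := by
    rw [h]
    exact ValuationSubring.mem_top _
  rw [mem_O, map_inv₀, hπ, ← exp_neg, neg_neg, ← exp_zero, exp_le_exp] at h3
  omega

theorem isNontrivial (P : Place k K) : P.1.IsNontrivial := by
  obtain ⟨π, hπ⟩ := exists_unif P
  refine ⟨π, ?_, ?_⟩
  · rw [hπ]; exact exp_ne_zero
  · rw [hπ, ← exp_zero]
    intro h
    have := exp_injective h
    omega

/-- The valuation ring of a place is a discrete valuation ring. -/
instance isDVR (P : Place k K) : IsDiscreteValuationRing P.O := by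
  have := isNontrivial P
  infer_instance

/-- A valuation subring of `K` containing `R` contains the elements integral over `R`. -/
theorem mem_of_isIntegral {R : Type*} [CommRing R] {K : Type*} [Field K] [Algebra R K]
    (O : ValuationSubring K) (hR : ∀ r : R, algebraMap R K r ∈ O) {x : K} (hx : IsIntegral R x) :
    x ∈ O := by
  have h1 : IsIntegral O x := by
    let φ : R →+* O := (algebraMap R K).codRestrict O.toSubring hR
    obtain ⟨p, hp, hpx⟩ := hx
    refine ⟨p.map φ, hp.map φ, ?_⟩
    rw [Polynomial.eval₂_map]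
    exact hpx
  obtain ⟨y, hy⟩ := IsIntegrallyClosed.isIntegral_iff.1 h1
  rw [← hy]
  exact y.2

theorem isUnit_O_iff {P : Place k K} {x : P.O} : IsUnit x ↔ P.1 (x : K) = 1 :=
  (Valuation.Integers.isUnit_iff_valuation_eq_one (v := P.1) (O := P.O) ⟨Subtype.val_injective,
    fun r => r.2, fun r hr => ⟨⟨r, hr⟩, rfl⟩⟩)

theorem mem_maximalIdeal_iff {P : Place k K} {x : P.O} :
    x ∈ IsLocalRing.maximalIdeal P.O ↔ P.1 (x : K) < 1 := by
  rw [IsLocalRing.mem_maximalIdeal, mem_nonunits_iff, isUnit_O_iff]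
  exact ⟨fun h => lt_of_le_of_ne x.2 h, fun h => h.ne⟩

theorem val_lt_one_iff_le (P : Place k K) (x : K) : P.1 x < 1 ↔ P.1 x ≤ exp (-1 : ℤ) := by
  by_cases hx : x = 0
  · simp [hx]
  rw [val_eq_exp P hx, ← exp_zero, exp_lt_exp, exp_le_exp]
  omega

theorem val_const (P : Place k K) {c : k} (hc : c ≠ 0) : P.1 (algebraMap k K c) = 1 := by
  refine le_antisymm (P.2.1 c) ?_
  have h := P.2.1 c⁻¹
  rw [map_inv₀, map_inv₀, inv_le_one₀] at h
  · exact h
  · rw [zero_lt_iff]
    exact val_ne_zero P (by simpa using hc)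

/-! ### Restriction of places -/

section Over

variable {K' : Type*} [Field K'] [Algebra K K'] [Algebra k K']

theorem pos_of_isOverWith {Q : Place k K'} {P : Place k K} {e : ℕ} (h : IsOverWith Q P e) :
    1 ≤ e := by
  rcases Nat.eq_zero_or_pos e with rfl | h1
  · have := h 0
    rw [map_zero, map_zero, pow_zero] at this
    exact absurd this (by simp)
  · exact h1

theorem isOverWith_unique {Q : Place k K'} {P : Place k K} {e e' : ℕ} (h : IsOverWith Q P e)
    (h' : IsOverWith Q P e') : e = e' := by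
  obtain ⟨π, hπ⟩ := exists_unif P
  have h1 := (h π).symm.trans (h' π)
  rw [hπ, ← exp_nsmul, ← exp_nsmul] at h1
  have h2 := exp_injective h1
  simp at h2
  exact h2

theorem ramIdx_eq {Q : Place k K'} {P : Place k K} {e : ℕ} (h : IsOverWith Q P e) :
    ramIdx Q P = e := by
  classical
  unfold ramIdx
  rw [dif_pos ⟨e, h⟩]
  exact isOverWith_unique (Nat.find_spec (⟨e, h⟩ : IsOver Q P)) h

theorem isOverWith_ramIdx {Q : Place k K'} {P : Place k K} (h : IsOver Q P) :
    IsOverWith Q P (ramIdx Q P) := by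
  obtain ⟨e, he⟩ := h
  rwa [ramIdx_eq he]

theorem ramIdx_pos {Q : Place k K'} {P : Place k K} (h : IsOver Q P) : 1 ≤ ramIdx Q P :=
  pos_of_isOverWith (isOverWith_ramIdx h)

theorem val_algebraMap {Q : Place k K'} {P : Place k K} (h : IsOver Q P) (x : K) :
    Q.1 (algebraMap K K' x) = P.1 x ^ ramIdx Q P := isOverWith_ramIdx h x

theorem ord_algebraMap {Q : Place k K'} {P : Place k K} (h : IsOver Q P) (x : K) :
    Q.ord (algebraMap K K' x) = ramIdx Q P * P.ord x := by
  rw [Place.ord, val_algebraMap h, log_pow, Place.ord]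
  simp

theorem val_algebraMap_le_one_iff {Q : Place k K'} {P : Place k K} (h : IsOver Q P) (x : K) :
    Q.1 (algebraMap K K' x) ≤ 1 ↔ P.1 x ≤ 1 := by
  rw [val_algebraMap h]
  exact pow_le_one_iff (by have := ramIdx_pos h; omega)

theorem val_algebraMap_lt_one_iff {Q : Place k K'} {P : Place k K} (h : IsOver Q P) (x : K) :
    Q.1 (algebraMap K K' x) < 1 ↔ P.1 x < 1 := by
  rw [val_algebraMap h]
  exact pow_lt_one_iff (by have := ramIdx_pos h; omega)

theorem comap_O {Q : Place k K'} {P : Place k K} (h : IsOver Q P) :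
    Q.O.comap (algebraMap K K') = P.O := by
  ext x
  exact val_algebraMap_le_one_iff h x

theorem below_unique {Q : Place k K'} {P P' : Place k K} (h : IsOver Q P) (h' : IsOver Q P') :
    P = P' := ext_O ((comap_O h).symm.trans (comap_O h'))

/-- Every place of `K'` restricts to a place of `K`, if `K'/K` is algebraic. -/
theorem exists_below [IsScalarTower k K K'] [Algebra.IsAlgebraic K K'] (Q : Place k K') :
    ∃ P : Place k K, IsOver Q P := by
  classical
  -- the orders of elements of `K`
  let H : AddSubgroup ℤ :=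
    { carrier := {n | ∃ x : K, x ≠ 0 ∧ Q.ord (algebraMap K K' x) = n}
      zero_mem' := ⟨1, one_ne_zero, by simp [Place.ord]⟩
      add_mem' := by
        rintro a b ⟨x, hx, rfl⟩ ⟨y, hy, rfl⟩
        refine ⟨x * y, mul_ne_zero hx hy, ?_⟩
        simp only [Place.ord]
        rw [map_mul, map_mul, log_mul (val_ne_zero Q (by simpa using hx))
          (val_ne_zero Q (by simpa using hy))]
        ring
      neg_mem' := by
        rintro a ⟨x, hx, rfl⟩
        refine ⟨x⁻¹, inv_ne_zero hx, ?_⟩
        simp only [Place.ord]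
        rw [map_inv₀, map_inv₀, log_inv] }
  have hHmem : ∀ n : ℤ, n ∈ H ↔ ∃ x : K, x ≠ 0 ∧ Q.ord (algebraMap K K' x) = n := fun n => Iff.rfl
  have hH0 : H ≠ ⊥ := by
    intro hH
    apply O_ne_top Q
    rw [eq_top_iff]
    intro y _
    refine mem_of_isIntegral (R := K) Q.O (fun r => ?_) (Algebra.IsIntegral.isIntegral y)
    by_cases hr : r = 0
    · rw [hr, map_zero]
      exact Q.O.zero_mem
    · have h1 : Q.ord (algebraMap K K' r) ∈ H := (hHmem _).2 ⟨r, hr, rfl⟩
      rw [hH, AddSubgroup.mem_bot] at h1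
      rw [mem_O, val_eq_exp Q (by simpa using hr), h1]
      simp
  obtain ⟨e, he0, he⟩ : ∃ e : ℕ, 0 < e ∧ ∀ n : ℤ, n ∈ H ↔ (e : ℤ) ∣ n := by
    obtain ⟨a, ha⟩ := Int.subgroup_cyclic H
    refine ⟨a.natAbs, ?_, ?_⟩
    · rw [Int.natAbs_pos]
      rintro rfl
      apply hH0
      rw [ha]
      simp
    · intro n
      rw [ha, ← AddSubgroup.zmultiples_eq_closure, Int.mem_zmultiples_iff, Int.natAbs_dvd]
  have hdvd : ∀ x : K, x ≠ 0 → (e : ℤ) ∣ Q.ord (algebraMap K K' x) := fun x hx =>
    (he _).1 ((hHmem _).2 ⟨x, hx, rfl⟩)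
  have he0' : (e : ℤ) ≠ 0 := by exact_mod_cast he0.ne'
  -- the restricted valuation
  let w : Valuation K ℤᵐ⁰ :=
    { toFun := fun x => if x = 0 then 0 else exp (-(Q.ord (algebraMap K K' x) / (e : ℤ)))
      map_zero' := if_pos rfl
      map_one' := by
        rw [if_neg one_ne_zero, map_one]
        simp [Place.ord]
      map_mul' := by
        intro x y
        by_cases hx : x = 0
        · simp [hx]
        by_cases hy : y = 0
        · simp [hy]
        rw [if_neg (mul_ne_zero hx hy), if_neg hx, if_neg hy, ← exp_add]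
        have h1 : Q.ord (algebraMap K K' (x * y)) =
            Q.ord (algebraMap K K' x) + Q.ord (algebraMap K K' y) := by
          simp only [Place.ord]
          rw [map_mul, map_mul, log_mul (val_ne_zero Q (by simpa using hx))
            (val_ne_zero Q (by simpa using hy))]
          ring
        rw [h1, Int.add_ediv_of_dvd_left (hdvd x hx)]
        congr 1
        ring
      map_add_le_max' := by
        intro x y
        by_cases hx : x = 0
        · simp [hx]
        by_cases hy : y = 0
        · simp [hy]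
        by_cases hxy : x + y = 0
        · rw [if_pos hxy]
          exact zero_le
        rw [if_neg hxy, if_neg hx, if_neg hy, le_max_iff, exp_le_exp, exp_le_exp, neg_le_neg_iff,
          neg_le_neg_iff]
        have h1 := Q.1.map_add (algebraMap K K' x) (algebraMap K K' y)
        rw [← map_add, val_eq_exp Q (x := algebraMap K K' (x + y)) ((map_ne_zero _).2 hxy),
          val_eq_exp Q (x := algebraMap K K' x) (by simpa using hx),
          val_eq_exp Q (x := algebraMap K K' y) (by simpa using hy), le_max_iff, exp_le_exp,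
          exp_le_exp, neg_le_neg_iff, neg_le_neg_iff] at h1
        rcases h1 with h1 | h1
        · exact Or.inl (Int.ediv_le_ediv (by positivity) h1)
        · exact Or.inr (Int.ediv_le_ediv (by positivity) h1) }
  have hw : ∀ x : K, Q.1 (algebraMap K K' x) = w x ^ e := by
    intro x
    by_cases hx : x = 0
    · rw [hx, map_zero, map_zero, map_zero, zero_pow he0.ne']
    · have h1 : w x = exp (-(Q.ord (algebraMap K K' x) / (e : ℤ))) := if_neg hx
      rw [h1, val_eq_exp Q (by simpa using hx), ← exp_nsmul]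
      congr 1
      rw [nsmul_eq_mul, mul_neg, Int.mul_ediv_cancel' (hdvd x hx)]
  refine ⟨ofVal w ?_ ?_, e, hw⟩
  · intro c
    have h1 := Q.2.1 c
    rw [IsScalarTower.algebraMap_apply k K K', hw] at h1
    exact (pow_le_one_iff he0.ne').1 h1
  · obtain ⟨x, hx, hxe⟩ := (hHmem _).1 ((he _).2 dvd_rfl)
    refine ⟨x, ?_⟩
    have h1 : w x = exp (-(Q.ord (algebraMap K K' x) / (e : ℤ))) := if_neg hx
    rw [h1, hxe, Int.ediv_self he0']

theorem isOver_iff_comap [IsScalarTower k K K'] [Algebra.IsAlgebraic K K'] {Q : Place k K'}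
    {P : Place k K} : IsOver Q P ↔ Q.O.comap (algebraMap K K') = P.O := by
  refine ⟨comap_O, fun h => ?_⟩
  obtain ⟨P', hP'⟩ := exists_below (K := K) Q
  have : P' = P := ext_O ((comap_O hP').symm.trans h)
  rwa [← this]

/-- The valuation rings of places are maximal: an inclusion is enough. -/
theorem eq_of_le {P P' : Place k K} (h : ∀ x, P.1 x ≤ 1 → P'.1 x ≤ 1) : P = P' := by
  have h1 : P.O ≤ P'.O := fun x hx => h x hx
  refine ext_O ?_
  obtain ⟨π, hπ⟩ := exists_unif P
  obtain ⟨y, hy⟩ : ∃ y, P'.1 y > 1 := by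
    obtain ⟨ρ, hρ⟩ := exists_unif P'
    refine ⟨ρ⁻¹, ?_⟩
    rw [map_inv₀, hρ, ← exp_neg, ← exp_zero, gt_iff_lt, exp_lt_exp]
    omega
  refine le_antisymm h1 fun x hx => ?_
  by_contra hx'
  -- some power of `x` times ... dominates `y`
  have hx0 : x ≠ 0 := by
    rintro rfl
    exact hx' P.O.zero_mem
  have hy0 : y ≠ 0 := by
    rintro rfl
    simp at hy
  rw [mem_O, not_le, val_eq_exp P hx0, ← exp_zero, exp_lt_exp] at hx'
  have h2 : P.1 (y / x ^ (P.ord y).natAbs) ≤ 1 := by
    rw [map_div₀, map_pow, val_eq_exp P hx0, val_eq_exp P hy0, ← exp_nsmul, ← exp_sub, ← exp_zero,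
      exp_le_exp, nsmul_eq_mul]
    have h3 : ((P.ord y).natAbs : ℤ) * 1 ≤ ((P.ord y).natAbs : ℤ) * (-(P.ord x)) :=
      mul_le_mul_of_nonneg_left (by omega) (by positivity)
    omega
  have h4 := h _ h2
  rw [map_div₀, map_pow, div_le_one₀] at h4
  · have h5 : P'.1 x ^ (P.ord y).natAbs ≤ 1 := pow_le_one' hx _
    exact absurd (h4.trans h5) (not_le.2 hy)
  · rw [zero_lt_iff]
    exact pow_ne_zero _ (val_ne_zero P' hx0)

theorem isOver_iff_forall [IsScalarTower k K K'] [Algebra.IsAlgebraic K K'] {Q : Place k K'}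
    {P : Place k K} : IsOver Q P ↔ ∀ x : K, P.1 x ≤ 1 → Q.1 (algebraMap K K' x) ≤ 1 := by
  refine ⟨fun h x hx => (val_algebraMap_le_one_iff h x).2 hx, fun h => ?_⟩
  obtain ⟨P', hP'⟩ := exists_below (K := K) Q
  have : P = P' := eq_of_le fun x hx => (val_algebraMap_le_one_iff hP' x).1 (h x hx)
  rwa [this]

end Over

section Tower

variable {K' K'' : Type*} [Field K'] [Algebra K K'] [Algebra k K'] [Field K''] [Algebra K K'']
  [Algebra k K''] [Algebra K' K''] [IsScalarTower K K' K'']

theorem isOverWith_trans {R : Place k K''} {Q : Place k K'} {P : Place k K} {e e' : ℕ}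
    (h : IsOverWith R Q e) (h' : IsOverWith Q P e') : IsOverWith R P (e' * e) := by
  intro x
  rw [IsScalarTower.algebraMap_apply K K' K'', h, h', pow_mul]

theorem isOver_trans {R : Place k K''} {Q : Place k K'} {P : Place k K}
    (h : IsOver R Q) (h' : IsOver Q P) : IsOver R P := by
  obtain ⟨e, he⟩ := h
  obtain ⟨e', he'⟩ := h'
  exact ⟨_, isOverWith_trans he he'⟩

theorem ramIdx_mul {R : Place k K''} {Q : Place k K'} {P : Place k K}
    (h : IsOver R Q) (h' : IsOver Q P) : ramIdx R P = ramIdx R Q * ramIdx Q P := by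
  rw [ramIdx_eq (isOverWith_trans (isOverWith_ramIdx h) (isOverWith_ramIdx h')), mul_comm]

theorem isOver_of_isOver_of_isOver {R : Place k K''} {Q : Place k K'} {P : Place k K}
    [IsScalarTower k K K'] [Algebra.IsAlgebraic K K']
    (h : IsOver R Q) (h' : IsOver R P) : IsOver Q P := by
  obtain ⟨P', hP'⟩ := exists_below (K := K) Q
  have : P' = P := below_unique (isOver_trans h hP') h'
  rwa [← this]

end Tower

end K661.Place
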