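import Groth.Agent.FunFld.K661.HypDiff

/-!
# The differential `dx/q` on `y² + y = f(x)` in characteristic two
-/

set_option autoImplicit false
set_option linter.unusedSectionVars false
open WithZero Polynomial FunFld K660.Places LaurentSeries K661.HypDiff

universe u v w

namespace K661.ASDiff

section Poly

variable {k : Type u} [Field k]

/-- Derivative of `π^n g`. -/
theorem derivative_pow_mul (π g : k[X]) (n : ℕ) :
    derivative (π ^ (n + 1) * g) = π ^ n * (C ((n : k) + 1) * derivative π * g + π * derivative g) := by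
  rw [derivative_mul, derivative_pow_succ, C_add, C_1, map_natCast]
  ring

theorem natDegree_wronskian {g h : k[X]} (hg : g ≠ 0) {n : ℕ} (hn : (n : k) ≠ 0)
    (hdeg : h.natDegree = g.natDegree + n) :
    (g * derivative h - h * derivative g) ≠ 0 ∧
      (g * derivative h - h * derivative g).natDegree + 1 = g.natDegree + h.natDegree := by
  have hn0 : n ≠ 0 := by
    rintro rfl
    simp at hn
  have hh : h ≠ 0 := by
    rintro rfl
    simp at hdeg
    omega
  have h1 : (g * derivative h - h * derivative g).coeff (g.natDegree + h.natDegree - 1) =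
      (n : k) * (g.leadingCoeff * h.leadingCoeff) := by
    have h2 : (g * derivative h).coeff (g.natDegree + h.natDegree - 1) =
        g.leadingCoeff * (h.leadingCoeff * h.natDegree) := by
      rw [show g.natDegree + h.natDegree - 1 = g.natDegree + (h.natDegree - 1) by omega,
        coeff_mul_add_eq_of_natDegree_le le_rfl (natDegree_derivative_le h), coeff_derivative,
        Nat.sub_add_cancel (by omega)]
      have : ((h.natDegree - 1 : ℕ) : k) + 1 = h.natDegree := by
        rw [← Nat.cast_succ, Nat.succ_eq_add_one, Nat.sub_add_cancel (by omega)]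
      rw [this]
      rfl
    have h3 : (h * derivative g).coeff (g.natDegree + h.natDegree - 1) =
        h.leadingCoeff * (g.leadingCoeff * g.natDegree) := by
      rcases Nat.eq_zero_or_pos g.natDegree with h0 | h0
      · obtain ⟨c, rfl⟩ := natDegree_eq_zero.1 h0
        simp
      · rw [show g.natDegree + h.natDegree - 1 = h.natDegree + (g.natDegree - 1) by omega,
          coeff_mul_add_eq_of_natDegree_le le_rfl (natDegree_derivative_le g), coeff_derivative,
          Nat.sub_add_cancel h0]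
        have : ((g.natDegree - 1 : ℕ) : k) + 1 = g.natDegree := by
          rw [← Nat.cast_succ, Nat.succ_eq_add_one, Nat.sub_add_cancel h0]
        rw [this]
        rfl
    rw [coeff_sub, h2, h3, hdeg]
    push_cast
    ring
  have h4 : (n : k) * (g.leadingCoeff * h.leadingCoeff) ≠ 0 :=
    mul_ne_zero hn (mul_ne_zero (leadingCoeff_ne_zero.2 hg) (leadingCoeff_ne_zero.2 hh))
  have h5 : (g * derivative h - h * derivative g) ≠ 0 := by
    intro h0
    rw [h0, coeff_zero] at h1
    exact h4 h1.symm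
  refine ⟨h5, ?_⟩
  apply le_antisymm
  · have h6 : (g * derivative h - h * derivative g).natDegree ≤ g.natDegree + h.natDegree - 1 := by
      refine (natDegree_sub_le _ _).trans (max_le ?_ ?_)
      · refine natDegree_mul_le.trans ?_
        have := natDegree_derivative_le h
        omega
      · rcases Nat.eq_zero_or_pos g.natDegree with h0 | h0
        · obtain ⟨c, rfl⟩ := natDegree_eq_zero.1 h0
          simp
        · refine natDegree_mul_le.trans ?_
          have := natDegree_derivative_le g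
          omega
    omega
  · have h6 := le_natDegree_of_ne_zero (h1.trans_ne h4)
    omega

end Poly

section Inf

variable {k : Type u} [Field k]

theorem inf_unique {P Q : Place k (RatFunc k)} (hP : 1 < P.1 (RatFunc.X : RatFunc k))
    (hQ : 1 < Q.1 (RatFunc.X : RatFunc k)) : Q = P := by
  refine place_ext fun x => ?_
  by_cases hx : x = 0
  · simp [hx]
  · rw [K666.RatPl.inf_val Q hQ x hx, K666.RatPl.inf_val P hP x hx]

variable (k) in
theorem exists_inf : ∃ P : Place k (RatFunc k), 1 < P.1 (RatFunc.X : RatFunc k) := by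
  have hX : (RatFunc.X : RatFunc k) ∉ Set.range (algebraMap k (RatFunc k)) := by
    rintro ⟨c, hc⟩
    exact K666.RatPl.transcendental_X (k := k) (by rw [← hc]; exact isAlgebraic_algebraMap c)
  exact exists_pole K666.RatPl.isFunctionField hX

theorem inf_ord_poly {P : Place k (RatFunc k)} (hP : 1 < P.1 (RatFunc.X : RatFunc k)) (q : k[X]) :
    P.ord (algebraMap k[X] (RatFunc k) q) = -(q.natDegree : ℤ) := by
  rw [K666.RatPl.inf_ord P hP, RatFunc.intDegree_polynomial]

variable {f : RatFunc k} {q : k[X]}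
    (hq : ∀ p : FunFld.Place k (RatFunc k), p.1 RatFunc.X ≤ 1 →
      p.ord (algebraMap (Polynomial k) (RatFunc k) q) = if 1 < p.1 f then (1 - p.ord f) / 2 else 0)
include hq

theorem FDiv_apply' (p : Place k (RatFunc k)) :
    K662.ASGenus.FDiv (k := k) f p = if 1 < p.1 f then (1 - p.ord f) / 2 else 0 := by
  rw [K662.ASGenus.FDiv_apply, K660.Compare.div_apply K666.RatPl.isFunctionField]
  by_cases h : p.ord f < 0
  · rw [if_pos h, if_pos ((K660.Ord.one_lt_val_iff p).2 h)]
  · rw [if_neg h, if_neg (fun h' => h ((K660.Ord.one_lt_val_iff p).1 h'))]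

theorem deg_FDiv {P : Place k (RatFunc k)} (hP : 1 < P.1 (RatFunc.X : RatFunc k)) :
    (K662.ASGenus.FDiv (k := k) f).deg = q.natDegree + K662.ASGenus.FDiv (k := k) f P := by
  have hK₀ := K666.RatPl.isFunctionField (k := k)
  have h1 : K662.ASGenus.FDiv (k := k) f - div k (algebraMap k[X] (RatFunc k) q) =
      (q.natDegree + K662.ASGenus.FDiv (k := k) f P) • Finsupp.single P (1 : ℤ) := by
    ext p
    rw [Finsupp.sub_apply, K660.Compare.div_apply hK₀, Finsupp.smul_apply, smul_eq_mul]
    by_cases hp : p = P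
    · subst hp
      rw [Finsupp.single_eq_same, inf_ord_poly hP]
      ring
    · rw [Finsupp.single_eq_of_ne hp, mul_zero, FDiv_apply' hq, hq p, sub_self]
      by_contra hcon
      exact hp (inf_unique hP (not_le.1 hcon))
  have h2 := congrArg Divisor.deg h1
  rw [K660.Compare.deg_sub, K660.Compare.deg_div hK₀, K660.Compare.deg_zsmul,
    K660.Compare.deg_single, K666.RatPl.inf_deg P hP] at h2
  simpa using h2

end Inf

section Order

variable {k : Type u} {K : Type v} {F : Type w} [Field k] [Field K] [Field F] [Algebra k K]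
  [Algebra k F] [FiniteDimensional k F] [Algebra.IsSeparable k F] [Algebra (RatFunc k) K]
  [IsScalarTower k (RatFunc k) K] [CharP k 2] (hdeg : Module.finrank (RatFunc k) K = 2) {y : K}
  {f : RatFunc k}
  (hy : y ∉ Set.range (algebraMap (RatFunc k) K)) (heq : y ^ 2 + y = algebraMap (RatFunc k) K f)
  (hodd : ∀ p : FunFld.Place k (RatFunc k), 1 < p.1 f → Odd (p.ord f))

include hdeg hy heq

/-- The conjugation. -/
theorem exists_conj' : ∃ σ : K ≃ₐ[RatFunc k] K, σ y = y + 1 := by
  have : CharP (RatFunc k) 2 := charP_of_injective_algebraMap (algebraMap k (RatFunc k)).injective 2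
  exact K662.ASGenus.exists_aut hdeg hy heq

variable {P : Place k K} {P₀ : Place k (RatFunc k)} (hP₀ : IsOver P P₀)
  {φ : K →ₐ[k] F⸨X⸩} (hφ : LocRes.IsExpansionAt P.1 φ)

include hP₀

theorem ramIdx_nonpole (hf : P₀.1 f ≤ 1) : ramIdx P P₀ = 1 := by
  obtain ⟨σ, hσ⟩ := exists_conj' hdeg hy heq
  refine K666.QuadPl.ramIdx_eq_one K666.RatPl.isFunctionField hdeg P P₀ hP₀ σ y
    (K662.ASGenus.val_y_le hP₀ heq hf) ?_
  rw [hσ, add_sub_cancel_left, map_one]

theorem ramIdx_pole (hodd : Odd (P₀.ord f)) (hf : 1 < P₀.1 f) : ramIdx P P₀ = 2 := by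
  rw [K660.Ord.one_lt_val_iff] at hf
  have hy2 := K662.ASGenus.ord_y hP₀ heq hf
  refine (K666.QuadPl.ramIdx_eq_two K666.RatPl.isFunctionField hdeg P P₀ hP₀ f hodd ?_).1
  rw [K661.Place.ord_algebraMap hP₀, ← hy2]
  exact even_two_mul _

omit hy in
theorem ord_y_pole (he : ramIdx P P₀ = 2) (hf : 1 < P₀.1 f) : P.ord y = P₀.ord f := by
  rw [K660.Ord.one_lt_val_iff] at hf
  have hy2 := K662.ASGenus.ord_y hP₀ heq hf
  rw [he] at hy2
  push_cast at hy2
  omega

omit hP₀ hdeg in
/-- The relation between `dy` and `dx`. -/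
theorem vDiff_rel (hφ : LocRes.IsExpansionAt P.1 φ) :
    P.1 (aeval (algebraMap (RatFunc k) K RatFunc.X) f.denom) ^ 2 * LocRes.vDiff φ 1 y =
    P.1 (aeval (algebraMap (RatFunc k) K RatFunc.X)
      (f.denom * derivative f.num - f.num * derivative f.denom)) *
      LocRes.vDiff φ 1 (algebraMap (RatFunc k) K RatFunc.X) := by
  rw [← map_pow, ← hφ.1, ← hφ.1, ← K667.DiffOrd.vDiff_eq_mul_one, ← K667.DiffOrd.vDiff_eq_mul_one]
  apply K667.DiffOrd.vDiff_congr
  set x := algebraMap (RatFunc k) K RatFunc.X with hx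
  have hchK : CharP K 2 := charP_of_injective_algebraMap (algebraMap k K).injective 2
  have h1 : aeval x f.denom * (y ^ 2 + y) = aeval x f.num := by
    have h0 : algebraMap k[X] (RatFunc k) f.denom ≠ 0 :=
      (map_ne_zero_iff _ (RatFunc.algebraMap_injective k)).2 f.denom_ne_zero
    rw [heq, hx, HypDiff.aeval_X, HypDiff.aeval_X, ← map_mul]
    congr 1
    have h00 := f.num_div_denom
    rw [div_eq_iff h0] at h00
    rw [h00, mul_comm]
  have h2 : KaehlerDifferential.D k K (y ^ 2) = 0 := by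
    rw [Derivation.leibniz_pow]
    have : (2 : K) = 0 := CharTwo.two_eq_zero
    rw [← Nat.cast_smul_eq_nsmul K]
    push_cast
    rw [this, zero_smul]
  have h3 := congrArg (KaehlerDifferential.D k K) h1
  rw [Derivation.leibniz, map_add, h2, zero_add, Derivation.map_aeval, Derivation.map_aeval] at h3
  have h4 := congrArg (fun w => aeval x f.denom • w) h3
  simp only [smul_add, ← mul_smul] at h4
  rw [map_sub, map_mul, map_mul, sub_smul, pow_two]
  rw [← h4]
  rw [← h1]
  module

omit [FiniteDimensional k F] [Algebra.IsSeparable k F] [CharP k 2] hdeg hy heq in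
theorem val_poly (g : k[X]) : P.1 (aeval (algebraMap (RatFunc k) K RatFunc.X) g) =
    P₀.1 (algebraMap k[X] (RatFunc k) g) ^ ramIdx P P₀ := by
  rw [HypDiff.aeval_X, K661.Place.val_algebraMap hP₀]

include hodd hφ

/-- `dx` at a finite pole of `f`. -/
theorem vDiff_x_finite_pole (hx : P₀.1 RatFunc.X ≤ 1) (hf : 1 < P₀.1 f) :
    LocRes.vDiff φ 1 (algebraMap (RatFunc k) K RatFunc.X) = exp (P₀.ord f - 1) := by
  have hxP : P.1 (algebraMap (RatFunc k) K RatFunc.X) ≤ 1 :=
    (K661.Place.val_algebraMap_le_one_iff hP₀ _).2 hx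
  have he := ramIdx_pole hdeg hy heq hP₀ (hodd P₀ hf) hf
  obtain ⟨π, hπ, hπ1, hπ2⟩ := K666.RatPl.fin_exists P₀ hx
  have hval : ∀ g : k[X], P.1 (aeval (algebraMap (RatFunc k) K RatFunc.X) g) =
      P₀.1 (algebraMap k[X] (RatFunc k) g) ^ 2 := fun g => by
    rw [val_poly hP₀, he]
  have hπP : P.1 (aeval (algebraMap (RatFunc k) K RatFunc.X) π) = exp (-2) := by
    rw [hval, hπ1, ← exp_nsmul]
    simp
  have hπ' := val_derivative P hφ hxP hπ (by rw [hπP, ← exp_zero, exp_lt_exp]; omega)
  -- `π` divides the denominator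
  have h0 : algebraMap k[X] (RatFunc k) f.denom ≠ 0 :=
    (map_ne_zero_iff _ (RatFunc.algebraMap_injective k)).2 f.denom_ne_zero
  have hfrac : f * algebraMap k[X] (RatFunc k) f.denom = algebraMap k[X] (RatFunc k) f.num := by
    have h00 := f.num_div_denom
    rw [div_eq_iff h0] at h00
    exact h00.symm
  have hdvd : π ∣ f.denom := by
    by_contra hcon
    have h1 := congrArg P₀.1 hfrac
    rw [map_mul, hπ2 _ hcon, mul_one] at h1
    rw [h1] at hf
    exact absurd (K666.RatPl.poly_le P₀ hx f.num) (not_le.2 hf)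
  have hnum : ¬ π ∣ f.num := by
    intro hcon
    exact hπ.not_isUnit (f.isCoprime_num_denom.isUnit_of_dvd' hcon hdvd)
  obtain ⟨n, g, hg, hgn⟩ : ∃ (n : ℕ) (g : k[X]), ¬ π ∣ g ∧ f.denom = π ^ n * g := by
    obtain ⟨n, g, hg, hgn⟩ := WfDvdMonoid.max_power_factor f.denom_ne_zero hπ
    exact ⟨n, g, hg, hgn⟩
  have hval_denom : P₀.1 (algebraMap k[X] (RatFunc k) f.denom) = exp (-(n : ℤ)) :=
    K666.RatPl.fin_val P₀ hπ1 hπ2 _ g n hg hgn
  have hfn : P₀.1 f = exp (n : ℤ) := by
    have h1 := congrArg P₀.1 hfrac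
    rw [map_mul, hπ2 _ hnum, hval_denom, exp_neg] at h1
    exact (mul_inv_eq_one₀ exp_ne_zero).1 h1
  have hford : P₀.ord f = -(n : ℤ) := by
    rw [Place.ord, hfn, log_exp]
  have hoddn : Odd n := by
    have := hodd P₀ hf
    rw [hford, odd_neg, Int.odd_coe_nat] at this
    exact this
  obtain ⟨m, hm⟩ : ∃ m, n = m + 1 := ⟨n - 1, by have := hoddn.pos; omega⟩
  have hnk : (m : k) + 1 = 1 := by
    have h2 : (2 : k) = 0 := CharTwo.two_eq_zero
    obtain ⟨r, hr⟩ := hoddn
    have : m = 2 * r := by omega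
    rw [this]
    push_cast
    rw [h2, zero_mul, zero_add]
  -- the Wronskian
  have hW : f.denom * derivative f.num - f.num * derivative f.denom =
      π ^ m * (π * g * derivative f.num - f.num * (derivative π * g + π * derivative g)) := by
    rw [hgn, hm, derivative_pow_mul, hnk, C_1]
    ring
  have hWP : P.1 (aeval (algebraMap (RatFunc k) K RatFunc.X)
      (f.denom * derivative f.num - f.num * derivative f.denom)) = exp (-(2 * m : ℤ)) := by
    rw [hW, map_mul, map_mul, map_pow, map_pow, hπP, ← exp_nsmul]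
    have h1 : P.1 (aeval (algebraMap (RatFunc k) K RatFunc.X)
        (π * g * derivative f.num - f.num * (derivative π * g + π * derivative g))) = 1 := by
      have h2 : (π * g * derivative f.num - f.num * (derivative π * g + π * derivative g)) =
          -(f.num * derivative π * g) + π * (g * derivative f.num - f.num * derivative g) := by ring
      rw [h2, map_add]
      have h3 : P.1 (aeval (algebraMap (RatFunc k) K RatFunc.X) (-(f.num * derivative π * g))) = 1 := by
        rw [map_neg, Valuation.map_neg, map_mul, map_mul, map_mul, map_mul, hπ', hval, hπ2 _ hnum,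
          hval, hπ2 _ hg]
        simp
      have h4 : P.1 (aeval (algebraMap (RatFunc k) K RatFunc.X)
          (π * (g * derivative f.num - f.num * derivative g))) < 1 := by
        rw [map_mul, map_mul]
        refine (mul_le_mul' le_rfl (val_aeval_le P hxP _)).trans_lt ?_
        rw [mul_one, hπP, ← exp_zero, exp_lt_exp]
        omega
      rw [Valuation.map_add_eq_of_lt_left _ (by rwa [h3]), h3]
    rw [h1, mul_one]
    congr 1
    simp only [nsmul_eq_mul]
    ring
  have hyo := ord_y_pole hdeg heq hP₀ he hf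
  have hy0 : y ≠ 0 := by
    rintro rfl
    exact hy ⟨0, map_zero _⟩
  have hyv : P.1 y = exp (n : ℤ) := by
    rw [K661.Place.val_eq_exp P hy0, hyo, hford, neg_neg]
  have hnF : ((n : ℤ) : F) ≠ 0 := by
    have h2 : ((n : ℤ) : F) = algebraMap k F ((m : k) + 1) := by
      rw [hm]
      simp
    rw [h2, hnk, map_one]
    exact one_ne_zero
  have hdy := vDiff_one_of_val P hφ hyv hnF
  have hrel := vDiff_rel hy heq hφ
  rw [hWP, hdy, hval, hval_denom, ← exp_nsmul, ← exp_nsmul, ← exp_add] at hrel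
  have h5 : LocRes.vDiff φ 1 (algebraMap (RatFunc k) K RatFunc.X) =
      (exp (-(2 * m : ℤ)))⁻¹ * exp (2 • (2 • (-(n : ℤ))) + (n + 1)) := by
    rw [hrel, inv_mul_cancel_left₀ exp_ne_zero]
  rw [h5, ← exp_neg, ← exp_add, hford]
  congr 1
  simp only [nsmul_eq_mul]
  push_cast [hm]
  ring

/-- Order of `dx/q` at the finite places. -/
theorem vDiff_finite' {q : k[X]}
    (hq : ∀ p : FunFld.Place k (RatFunc k), p.1 RatFunc.X ≤ 1 →
      p.ord (algebraMap (Polynomial k) (RatFunc k) q) = if 1 < p.1 f then (1 - p.ord f) / 2 else 0)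
    (hq0 : q ≠ 0) (hx : P₀.1 RatFunc.X ≤ 1) :
    LocRes.vDiff φ (aeval (algebraMap (RatFunc k) K RatFunc.X) q)⁻¹
      (algebraMap (RatFunc k) K RatFunc.X) = 1 := by
  have hq0' : algebraMap k[X] (RatFunc k) q ≠ 0 :=
    (map_ne_zero_iff _ (RatFunc.algebraMap_injective k)).2 hq0
  rw [K667.DiffOrd.vDiff_eq_mul_one, hφ.1, map_inv₀, val_poly hP₀,
    K661.Place.val_eq_exp P₀ hq0', hq P₀ hx]
  by_cases hf : 1 < P₀.1 f
  · have he := ramIdx_pole hdeg hy heq hP₀ (hodd P₀ hf) hf
    rw [if_pos hf, he, vDiff_x_finite_pole hdeg hy heq hodd hP₀ hφ hx hf, ← exp_nsmul, ← exp_neg,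
      ← exp_add, ← exp_zero]
    congr 1
    obtain ⟨r, hr⟩ := hodd P₀ hf
    rw [hr]
    have : (1 - (2 * r + 1)) / 2 = -r := by omega
    rw [this]
    simp only [nsmul_eq_mul]
    push_cast
    ring
  · rw [if_neg hf]
    have he := ramIdx_nonpole hdeg hy heq hP₀ (not_lt.1 hf)
    have hxP : P.1 (algebraMap (RatFunc k) K RatFunc.X) ≤ 1 :=
      (K661.Place.val_algebraMap_le_one_iff hP₀ _).2 hx
    obtain ⟨π, hπ, hπ1, hπ2⟩ := K666.RatPl.fin_exists P₀ hx
    have hπP : P.1 (aeval (algebraMap (RatFunc k) K RatFunc.X) π) = exp (-1) := by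
      rw [val_poly hP₀, hπ1, he, pow_one]
    have hπ' := val_derivative P hφ hxP hπ (by rw [hπP, ← exp_zero, exp_lt_exp]; omega)
    have h1 := K667.DiffOrd.vDiff_uniformizer hφ hπP
    rw [vDiff_aeval P hφ, hπ', one_mul] at h1
    rw [h1]
    simp

/-- Order of `dx/q` at the infinite places. -/
theorem vDiff_infinite' {q : k[X]} (hq0 : q ≠ 0) (hx : 1 < P₀.1 RatFunc.X) :
    LocRes.vDiff φ (aeval (algebraMap (RatFunc k) K RatFunc.X) q)⁻¹
      (algebraMap (RatFunc k) K RatFunc.X) =
      exp (ramIdx P P₀ * (2 - q.natDegree - if 1 < P₀.1 f then (1 - P₀.ord f) / 2 else 0)) := by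
  have hxP : 1 < P.1 (algebraMap (RatFunc k) K RatFunc.X) := by
    by_contra hcon
    exact absurd ((K661.Place.val_algebraMap_le_one_iff hP₀ _).1 (not_lt.1 hcon)) (not_le.2 hx)
  have hxv : P.1 (algebraMap (RatFunc k) K RatFunc.X) = exp (ramIdx P P₀ : ℤ) := by
    rw [K661.Place.val_algebraMap hP₀, K666.RatPl.inf_val_X P₀ hx, ← exp_nsmul]
    simp
  have hval : ∀ {g : k[X]}, g ≠ 0 → P.1 (aeval (algebraMap (RatFunc k) K RatFunc.X) g) =
      exp (ramIdx P P₀ * g.natDegree : ℤ) := fun {g} hg => by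
    rw [K660.CrvFin.val_aeval (not_le.2 hxP) hg, hxv, ← exp_nsmul]
    congr 1
    rw [nsmul_eq_mul]
    ring
  rw [K667.DiffOrd.vDiff_eq_mul_one, hφ.1, map_inv₀, hval hq0]
  by_cases hf : 1 < P₀.1 f
  · have he := ramIdx_pole hdeg hy heq hP₀ (hodd P₀ hf) hf
    rw [if_pos hf]
    rw [he] at hval ⊢
    have hf0 : f ≠ 0 := by
      rintro rfl
      rw [map_zero] at hf
      exact absurd hf (not_lt.2 zero_le)
    have hford : P₀.ord f = -f.intDegree := K666.RatPl.inf_ord P₀ hx f
    have hoddI := hodd P₀ hf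
    have hneg := (K660.Ord.one_lt_val_iff P₀).1 hf
    obtain ⟨n, hn⟩ : ∃ n : ℕ, f.intDegree = n := ⟨f.intDegree.toNat, by omega⟩
    rw [hn] at hford
    rw [hford, odd_neg, Int.odd_coe_nat] at hoddI
    have hdeg' : f.num.natDegree = f.denom.natDegree + n := by
      have : (f.num.natDegree : ℤ) - f.denom.natDegree = n := hn
      omega
    have hnk : (n : k) = 1 := by
      have h2 : (2 : k) = 0 := CharTwo.two_eq_zero
      obtain ⟨r, hr⟩ := hoddI
      rw [hr]
      push_cast
      rw [h2, zero_mul, zero_add]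
    obtain ⟨hW0, hWd⟩ := natDegree_wronskian f.denom_ne_zero (by rw [hnk]; exact one_ne_zero) hdeg'
    have hyo := ord_y_pole hdeg heq hP₀ he hf
    have hy0 : y ≠ 0 := by
      rintro rfl
      exact hy ⟨0, map_zero _⟩
    have hyv : P.1 y = exp (n : ℤ) := by
      rw [K661.Place.val_eq_exp P hy0, hyo, hford, neg_neg]
    have hnF : ((n : ℤ) : F) ≠ 0 := by
      have h2 : ((n : ℤ) : F) = algebraMap k F (n : k) := by simp
      rw [h2, hnk, map_one]
      exact one_ne_zero
    have hdy := vDiff_one_of_val P hφ hyv hnF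
    have hrel := vDiff_rel hy heq hφ
    rw [hval hW0, hdy, hval f.denom_ne_zero, ← exp_nsmul, ← exp_add] at hrel
    have h5 := (eq_inv_mul_iff_mul_eq₀ exp_ne_zero).2 hrel.symm
    rw [h5, ← exp_neg, ← exp_neg, ← exp_add, ← exp_add, hford]
    congr 1
    obtain ⟨r, hr⟩ := hoddI
    have h6 : ((1 : ℤ) - -(n : ℤ)) / 2 = r + 1 := by omega
    rw [h6]
    have h7 : ((f.denom * derivative f.num - f.num * derivative f.denom).natDegree : ℤ) + 1 =
        f.denom.natDegree + f.num.natDegree := by exact_mod_cast hWd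
    have h8 : ((f.denom * derivative f.num - f.num * derivative f.denom).natDegree : ℤ) =
        f.denom.natDegree + f.num.natDegree - 1 := by linarith
    rw [h8, hdeg', hr]
    simp only [nsmul_eq_mul]
    push_cast
    ring
  · have he := ramIdx_nonpole hdeg hy heq hP₀ (not_lt.1 hf)
    rw [if_neg hf, he]
    rw [he] at hxv
    rw [vDiff_one_of_val P hφ hxv (by simp), ← exp_neg, ← exp_add]
    congr 1
    push_cast
    ring

end Order

section Main

variable {k : Type u} {K : Type v} [Field k] [Field K] [Algebra k K] [Algebra (RatFunc k) K]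
  [IsScalarTower k (RatFunc k) K] [CharP k 2] [PerfectField k]
  (hdeg : Module.finrank (RatFunc k) K = 2) {y : K} {f : RatFunc k}
  (hy : y ∉ Set.range (algebraMap (RatFunc k) K)) (heq : y ^ 2 + y = algebraMap (RatFunc k) K f)
  (hodd : ∀ p : FunFld.Place k (RatFunc k), 1 < p.1 f → Odd (p.ord f))
  (hK : IsFunctionField k K) {q : k[X]} (hq0 : q ≠ 0)
  (hq : ∀ p : FunFld.Place k (RatFunc k), p.1 RatFunc.X ≤ 1 →
      p.ord (algebraMap (Polynomial k) (RatFunc k) q) = if 1 < p.1 f then (1 - p.ord f) / 2 else 0)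
  {F : Place k K → Type w} [∀ P, Field (F P)] [∀ P, Algebra k (F P)] [∀ P, FiniteDimensional k (F P)]
  {φ : ∀ P, K →ₐ[k] LaurentSeries (F P)} (hφ : ∀ P, LocRes.IsExpansionAt P.1 (φ P))

include hdeg hy heq hodd hK hq0 hq

theorem genus_eq {P₀ : Place k (RatFunc k)} (hP : 1 < P₀.1 (RatFunc.X : RatFunc k)) :
    (genus k K : ℤ) = q.natDegree + (if 1 < P₀.1 f then (1 - P₀.ord f) / 2 else 0) - 1 := by
  obtain ⟨σ, hσ⟩ := exists_conj' hdeg hy heq
  have hodd' : ∀ P : Place k (RatFunc k), div k f P < 0 → Odd (div k f P) := by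
    intro P hP
    rw [K660.Compare.div_apply K666.RatPl.isFunctionField] at hP ⊢
    exact hodd P ((K660.Ord.one_lt_val_iff P).2 hP)
  have h1 := K662.ASGenus.genus_eq K666.RatPl.isFunctionField hdeg hy heq hodd' hK σ hσ
  rw [K662.ASGenus.genus_ratFunc, deg_FDiv hq hP, FDiv_apply' hq] at h1
  rw [h1]
  push_cast
  ring

include hφ

theorem regular (i : ℕ) (hi : i < genus k K) (P : Place k K) :
    LocRes.vDiff (φ P) (algebraMap (RatFunc k) K (RatFunc.X ^ i / algebraMap (Polynomial k) (RatFunc k) q))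
      (algebraMap (RatFunc k) K RatFunc.X) ≤ 1 := by
  have : FiniteDimensional (RatFunc k) K := Module.finite_of_finrank_eq_succ hdeg
  have : Algebra.IsSeparable k (F P) := inferInstance
  obtain ⟨P₀, hP₀⟩ := K661.Place.exists_below (K := RatFunc k) P
  rw [map_div₀, map_pow, ← HypDiff.aeval_X, div_eq_mul_inv, K667.DiffOrd.vDiff_mul, (hφ P).1, map_pow]
  rcases le_or_gt (P₀.1 RatFunc.X) 1 with hx | hx
  · rw [vDiff_finite' hdeg hy heq hodd hP₀ (hφ P) hq hq0 hx, mul_one]
    exact pow_le_one' ((K661.Place.val_algebraMap_le_one_iff hP₀ _).2 hx) i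
  · have hg := genus_eq hdeg hy heq hodd hK hq0 hq hx
    have hpos := K661.Place.ramIdx_pos hP₀
    have h1 : (2 - (q.natDegree : ℤ) - if 1 < P₀.1 f then (1 - P₀.ord f) / 2 else 0) =
        1 - genus k K := by
      rw [hg]; ring
    rw [vDiff_infinite' hdeg hy heq hodd hP₀ (hφ P) hq0 hx, h1, K661.Place.val_algebraMap hP₀,
      K666.RatPl.inf_val_X P₀ hx, ← exp_nsmul, ← exp_nsmul, ← exp_add, ← exp_zero, exp_le_exp]
    simp only [nsmul_eq_mul, mul_one]
    have h2 : (i : ℤ) + 1 ≤ genus k K := by exact_mod_cast hi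
    have h3 : (i : ℤ) * (ramIdx P P₀ : ℤ) + (ramIdx P P₀ : ℤ) * (1 - (genus k K : ℤ)) =
        (ramIdx P P₀ : ℤ) * (i + 1 - genus k K) := by ring
    rw [h3]
    exact mul_nonpos_of_nonneg_of_nonpos (by positivity) (by linarith)

theorem exists_of_regular (z : K)
    (hz : ∀ P, LocRes.vDiff (φ P) z (algebraMap (RatFunc k) K RatFunc.X) ≤ 1) :
    ∃ a : k[X], a.degree < (genus k K : WithBot ℕ) ∧
      z = algebraMap (RatFunc k) K (algebraMap (Polynomial k) (RatFunc k) a /
        algebraMap (Polynomial k) (RatFunc k) q) := by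
  have hfin : FiniteDimensional (RatFunc k) K := Module.finite_of_finrank_eq_succ hdeg
  have hK₀ := K666.RatPl.isFunctionField (k := k)
  obtain ⟨Pi, hPi⟩ := exists_inf k
  obtain ⟨σ, hσ⟩ := exists_conj' hdeg hy heq
  have hodd' : ∀ P : Place k (RatFunc k), div k f P < 0 → Odd (div k f P) := by
    intro P hP
    rw [K660.Compare.div_apply K666.RatPl.isFunctionField] at hP ⊢
    exact hodd P ((K660.Ord.one_lt_val_iff P).2 hP)
  have hgF := K662.ASGenus.genus_eq hK₀ hdeg hy heq hodd' hK σ hσ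
  rw [K662.ASGenus.genus_ratFunc] at hgF
  have hq0' : algebraMap k[X] (RatFunc k) q ≠ 0 :=
    (map_ne_zero_iff _ (RatFunc.algebraMap_injective k)).2 hq0
  have hqK : aeval (algebraMap (RatFunc k) K RatFunc.X) q ≠ 0 := by
    rw [HypDiff.aeval_X]
    exact (map_ne_zero_iff _ (algebraMap (RatFunc k) K).injective).2 hq0'
  set E : Divisor k (RatFunc k) := Finsupp.single Pi ((genus k K : ℤ) - 1) with hE
  have hmem : z * aeval (algebraMap (RatFunc k) K RatFunc.X) q ∈ L (conorm K E) := by
    intro P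
    obtain ⟨P₀, hP₀⟩ := K661.Place.exists_below (K := RatFunc k) P
    rw [K662.Conorm.conorm_apply (exists_isGen hK₀) E hP₀]
    have h1 := hz P
    rw [show z = (z * aeval (algebraMap (RatFunc k) K RatFunc.X) q) *
      (aeval (algebraMap (RatFunc k) K RatFunc.X) q)⁻¹ by rw [mul_inv_cancel_right₀ hqK],
      K667.DiffOrd.vDiff_mul, (hφ P).1] at h1
    rcases le_or_gt (P₀.1 RatFunc.X) 1 with hx | hx
    · rw [vDiff_finite' hdeg hy heq hodd hP₀ (hφ P) hq hq0 hx, mul_one] at h1
      have h2 : P₀ ≠ Pi := by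
        rintro rfl
        exact absurd hx (not_le.2 hPi)
      rw [hE, Finsupp.single_eq_of_ne h2, mul_zero, exp_zero]
      exact h1
    · have h2 : P₀ = Pi := inf_unique hPi hx
      subst h2
      have hg := genus_eq hdeg hy heq hodd hK hq0 hq hx
      rw [vDiff_infinite' hdeg hy heq hodd hP₀ (hφ P) hq0 hx] at h1
      have h3 : (2 - (q.natDegree : ℤ) - if 1 < P₀.1 f then (1 - P₀.ord f) / 2 else 0) =
        1 - genus k K := by
        rw [hg]; ring
      rw [h3] at h1
      rw [hE, Finsupp.single_eq_same]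
      have h4 := mul_le_mul' h1 (le_refl (exp ((ramIdx P P₀ : ℤ) * ((genus k K : ℤ) - 1)) : ℤᵐ⁰))
      rw [mul_assoc, ← exp_add, one_mul] at h4
      have h5 : (ramIdx P P₀ : ℤ) * (1 - (genus k K : ℤ)) + (ramIdx P P₀ : ℤ) * ((genus k K : ℤ) - 1) = 0 := by
        ring
      rwa [h5, exp_zero, mul_one] at h4
  obtain ⟨a, b, hab⟩ := K662.ASGenus.exists_comb hdeg hy
    (z * aeval (algebraMap (RatFunc k) K RatFunc.X) q)
  rw [hab, K662.ASGenus.mem_L_conorm_iff hK₀ hdeg hy heq hodd' σ hσ] at hmem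
  obtain ⟨ha, hb⟩ := hmem
  have hdegE : E.deg = (genus k K : ℤ) - 1 := by
    rw [hE, K660.Compare.deg_single, K666.RatPl.inf_deg Pi hPi]
    simp
  have hb0 : b = 0 := by
    rw [K660.Compare.L_eq_bot_of_deg_neg hK₀] at hb
    · exact (Submodule.mem_bot k).1 hb
    · rw [K660.Compare.deg_sub, hdegE]
      push_cast at hgF
      linarith
  rw [hb0, map_zero, zero_mul, add_zero] at hab
  have hz' : z = algebraMap (RatFunc k) K (a / algebraMap (Polynomial k) (RatFunc k) q) := by
    rw [map_div₀, ← HypDiff.aeval_X, eq_div_iff hqK, hab]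
  rcases Nat.eq_zero_or_pos (genus k K) with hg0 | hg0
  · have ha0 : a = 0 := by
      rw [K660.Compare.L_eq_bot_of_deg_neg hK₀] at ha
      · exact (Submodule.mem_bot k).1 ha
      · rw [hdegE, hg0]
        norm_num
    refine ⟨0, by rw [degree_zero]; exact WithBot.bot_lt_coe _, ?_⟩
    rw [hz', ha0, map_zero]
  · have hbdd : K661.Hyp.Bdd k (RatFunc.X : RatFunc k) (genus k K - 1) a := by
      intro P
      have h1 := ha P
      by_cases hP : P = Pi
      · subst hP
        rw [hE, Finsupp.single_eq_same] at h1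
        rw [max_eq_left hPi.le, K666.RatPl.inf_val_X P hPi, ← exp_nsmul]
        refine h1.trans_eq ?_
        congr 1
        rw [nsmul_eq_mul, mul_one, Nat.cast_sub hg0]
        simp
      · rw [hE, Finsupp.single_eq_of_ne hP, exp_zero] at h1
        refine h1.trans ?_
        exact one_le_pow₀ (le_max_right _ _)
    have haX : a ∈ IntermediateField.adjoin k {(RatFunc.X : RatFunc k)} := by
      rw [RatFunc.adjoin_X]
      exact IntermediateField.mem_top
    obtain ⟨p, hp, hpa⟩ := hbdd.exists_poly hK₀ RatFunc.transcendental_X haX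
    refine ⟨p, ?_, ?_⟩
    · refine lt_of_le_of_lt (natDegree_le_iff_degree_le.1 hp) ?_
      exact_mod_cast (show genus k K - 1 < genus k K by omega)
    · rw [hz', hpa, RatFunc.aeval_X_left_eq_algebraMap]

end Main

end K661.ASDiff
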