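import Groth.Agent.FunFld.K661.ASDiff
import Groth.Agent.FunFld.K666.DiffEx

/-!
# The different exponent at a pole of odd order of `y² + y = f(x)` in characteristic two
-/

set_option autoImplicit false
set_option linter.unusedSectionVars false
open WithZero Polynomial FunFld K660.Places LaurentSeries K661.HypDiff

universe u v w

namespace K661.ASDiffExp

theorem finrank_omega_ratFunc {k : Type u} [Field k] :
    Module.finrank (RatFunc k) (Ω[(RatFunc k)⁄k]) = 1 := by
  have hG : IsGen k (RatFunc k) RatFunc.X := by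
    refine ⟨RatFunc.transcendental_X, ?_⟩
    rw [RatFunc.adjoin_X]
    exact Module.Finite.of_surjective
      (Algebra.linearMap (⊤ : IntermediateField k (RatFunc k)) (RatFunc k))
      (fun y => ⟨⟨y, IntermediateField.mem_top⟩, rfl⟩)
  refine K660.Sep.finrank_kaehler hG ⟨fun z => ?_⟩
  have h1 : z ∈ IntermediateField.adjoin k {(RatFunc.X : RatFunc k)} := by
    rw [RatFunc.adjoin_X]; exact IntermediateField.mem_top
  exact isSeparable_algebraMap (F := IntermediateField.adjoin k {(RatFunc.X : RatFunc k)})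
    (K := RatFunc k) (⟨z, h1⟩ : IntermediateField.adjoin k {(RatFunc.X : RatFunc k)})

section Congr

open LocRes K667.DiffOrd

universe v'

variable {k : Type u} {K : Type v} {K' : Type v'} [Field k] [Field K] [Field K'] [Algebra k K]
  [Algebra K K'] [Algebra k K'] [IsScalarTower k K K']
  {F F' : Type w} [Field F] [Algebra k F] [Field F'] [Algebra k F']
  {P : Place k K} {Q : Place k K'} {e : ℕ} (he : IsOverWith Q P e)
    {φ : K →ₐ[k] F⸨X⸩} (hφ : IsExpansionAt P.1 φ)
    {ψ : K' →ₐ[k] F'⸨X⸩} (hψ : IsExpansionAt Q.1 ψ)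

include he hφ hψ in
/-- Independence of the differential (`K, K'` in different universes). -/
theorem diffExp_congr (h1 : Module.finrank K (Ω[K⁄k]) = 1)
    (x : K) (hx : vDiff φ 1 x ≠ 0) (hx' : vDiff ψ 1 (algebraMap K K' x) ≠ 0)
    (x' : K) (hx2 : vDiff φ 1 x' ≠ 0) :
    vDiff ψ 1 (algebraMap K K' x') ≠ 0 ∧ diffExp φ ψ e x = diffExp φ ψ e x' := by
  obtain ⟨a, ha⟩ := exists_eq_smul_D h1 (D_ne_zero_of_vDiff_ne_zero hx).2
    (KaehlerDifferential.D k K x')
  have e1 : vDiff φ 1 x' = Valued.v (φ a) * vDiff φ 1 x := by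
    rw [← vDiff_eq_mul_one φ a]
    apply vDiff_congr
    rw [one_smul, ha]
  have e2 : vDiff ψ 1 (algebraMap K K' x') =
      Valued.v (ψ (algebraMap K K' a)) * vDiff ψ 1 (algebraMap K K' x) := by
    rw [← vDiff_eq_mul_one ψ (algebraMap K K' a)]
    apply vDiff_congr
    have := congrArg (KaehlerDifferential.map k k K K') ha
    rw [map_smul, KaehlerDifferential.map_D, KaehlerDifferential.map_D] at this
    rw [one_smul, this, algebraMap_smul]
  rw [hφ.1] at e1
  rw [hψ.1, he a] at e2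
  have ha0 : P.1 a ≠ 0 := by
    intro h; rw [h, zero_mul] at e1; exact hx2 e1
  have h2 : vDiff ψ 1 (algebraMap K K' x') ≠ 0 := by
    rw [e2]; exact mul_ne_zero (pow_ne_zero _ ha0) hx'
  refine ⟨h2, ?_⟩
  rw [diffExp, diffExp, ordDiff, ordDiff, ordDiff, ordDiff, e1, e2, log_mul ha0 hx,
    log_mul (pow_ne_zero _ ha0) hx', log_pow]
  simp only [nsmul_eq_mul]
  ring

end Congr

theorem diffExp_eq {k : Type u} {K : Type v} [Field k] [Field K] [Algebra k K] [Algebra (RatFunc k) K]
    [IsScalarTower k (RatFunc k) K] [CharP k 2] (hdeg : Module.finrank (RatFunc k) K = 2)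
    {y : K} (hy : y ∉ Set.range (algebraMap (RatFunc k) K)) {f : RatFunc k}
    (heq : y ^ 2 + y = algebraMap (RatFunc k) K f)
    {p : FunFld.Place k (RatFunc k)} (hp : 1 < p.1 f) (hodd : Odd (p.ord f))
    {P : FunFld.Place k K} {e : ℕ} (he : FunFld.IsOverWith P p e)
    {F F' : Type w} [Field F] [Algebra k F] [Field F'] [Algebra k F']
    {φ : RatFunc k →ₐ[k] LaurentSeries F} (hφ : LocRes.IsExpansionAt p.1 φ)
    {ψ : K →ₐ[k] LaurentSeries F'} (hψ : LocRes.IsExpansionAt P.1 ψ)
    (z : RatFunc k) (hz : LocRes.vDiff φ 1 z ≠ 0) (hz' : LocRes.vDiff ψ 1 (algebraMap (RatFunc k) K z) ≠ 0) :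
    LocRes.diffExp φ ψ e z = 1 - p.ord f := by
  have h2 : (2 : k) = 0 := CharTwo.two_eq_zero
  have he2 : e = 2 := by
    rw [← K661.Place.ramIdx_eq he]
    exact K661.ASDiff.ramIdx_pole hdeg hy heq ⟨e, he⟩ hodd hp
  have heR : ramIdx P p = 2 := by rw [K661.Place.ramIdx_eq he, he2]
  have hyo := K661.ASDiff.ord_y_pole hdeg heq ⟨e, he⟩ heR hp
  have hf0 : f ≠ 0 := by
    rintro rfl
    rw [map_zero] at hp
    exact absurd hp (not_lt.2 zero_le)
  have hy0 : y ≠ 0 := by
    rintro rfl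
    exact hy ⟨0, map_zero _⟩
  obtain ⟨m, hm⟩ := hodd
  have hk0 : ((-(p.ord f) : ℤ) : k) = -1 := by
    rw [hm, Int.cast_neg, Int.cast_add, Int.cast_mul, Int.cast_ofNat, h2, zero_mul, zero_add,
      Int.cast_one]
  have hkF : ((-(p.ord f) : ℤ) : F) ≠ 0 := by
    rw [← map_intCast (algebraMap k F), hk0, map_neg, map_one]
    exact neg_ne_zero.2 one_ne_zero
  have hkF' : ((-(p.ord f) : ℤ) : F') ≠ 0 := by
    rw [← map_intCast (algebraMap k F'), hk0, map_neg, map_one]
    exact neg_ne_zero.2 one_ne_zero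
  have hfv : p.1 f = exp (-(p.ord f)) := K661.Place.val_eq_exp p hf0
  have hyv : P.1 y = exp (-(p.ord f)) := by rw [K661.Place.val_eq_exp P hy0, hyo]
  have h3 : LocRes.vDiff φ 1 f = exp (-(p.ord f) + 1) := vDiff_one_of_val p hφ hfv hkF
  have h4 : LocRes.vDiff ψ 1 y = exp (-(p.ord f) + 1) := vDiff_one_of_val P hψ hyv hkF'
  have h5 : LocRes.vDiff ψ 1 (algebraMap (RatFunc k) K f) = LocRes.vDiff ψ 1 y := by
    apply K667.DiffOrd.vDiff_congr
    have hchK : CharP K 2 := charP_of_injective_algebraMap (algebraMap k K).injective 2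
    rw [← heq, map_add, Derivation.leibniz_pow, ← Nat.cast_smul_eq_nsmul K]
    have : ((2 : ℕ) : K) = 0 := by
      push_cast
      exact CharTwo.two_eq_zero
    rw [this, zero_smul, zero_add]
  have h6 : LocRes.diffExp φ ψ e z = LocRes.diffExp φ ψ e f :=
    (diffExp_congr he hφ hψ finrank_omega_ratFunc z hz hz' f (by
      rw [h3]; exact exp_ne_zero)).2
  rw [h6, LocRes.diffExp, LocRes.ordDiff, LocRes.ordDiff, h5, h3, h4, log_exp, he2]
  push_cast
  ring

end K661.ASDiffExp
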