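import Groth.Agent.FunFld.K661.Place
import Groth.Agent.FunFld.K664.WeakApprox
import Mathlib.FieldTheory.Galois.Basic
import Mathlib.RingTheory.Norm.Basic
import Mathlib.FieldTheory.PurelyInseparable.Basic

/-!
# Places in Galois and purely inseparable extensions

* `comapEquiv`: the transform of a place by an automorphism;
* `exists_comapEquiv_eq`: the Galois group acts transitively on the places above a place;
* `eq_of_purelyInseparable`: at most one place above a place in a purely inseparable extension.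

No finiteness hypothesis on `K/k` is used.
-/

set_option autoImplicit false
open WithZero FunFld K661.Place

namespace K661.Galois

variable {k K K' : Type*} [Field k] [Field K] [Field K'] [Algebra k K] [Algebra K K']
  [Algebra k K'] [IsScalarTower k K K']

/-- The transform of a place by a `K`-automorphism. -/
def comapEquiv (Q : Place k K') (σ : K' ≃ₐ[K] K') : Place k K' :=
  ofVal (Q.1.comap (σ : K' →+* K')) (by
    intro c
    rw [IsScalarTower.algebraMap_apply k K K']
    simp only [Valuation.comap_apply, RingHom.coe_coe, AlgEquiv.commutes]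
    rw [← IsScalarTower.algebraMap_apply k K K']
    exact Q.2.1 c) (by
    obtain ⟨π, hπ⟩ := exists_unif Q
    exact ⟨σ.symm π, by simpa using hπ⟩)

theorem comapEquiv_val (Q : Place k K') (σ : K' ≃ₐ[K] K') (x : K') :
    (comapEquiv Q σ).1 x = Q.1 (σ x) := rfl

theorem comapEquiv_one (Q : Place k K') : comapEquiv (K := K) Q 1 = Q := rfl

theorem comapEquiv_mul (Q : Place k K') (σ τ : K' ≃ₐ[K] K') :
    comapEquiv (comapEquiv Q σ) τ = comapEquiv Q (σ * τ) := rfl

theorem isOverWith_comapEquiv {Q : Place k K'} {P : Place k K} {e : ℕ} (σ : K' ≃ₐ[K] K')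
    (h : IsOverWith Q P e) : IsOverWith (comapEquiv Q σ) P e := by
  intro x
  rw [comapEquiv_val, AlgEquiv.commutes, h x]

theorem isOver_comapEquiv {Q : Place k K'} {P : Place k K} (σ : K' ≃ₐ[K] K')
    (h : IsOver Q P) : IsOver (comapEquiv Q σ) P := by
  obtain ⟨e, he⟩ := h
  exact ⟨e, isOverWith_comapEquiv σ he⟩

theorem ramIdx_comapEquiv {Q : Place k K'} {P : Place k K} (σ : K' ≃ₐ[K] K')
    (h : IsOver Q P) : ramIdx (comapEquiv Q σ) P = ramIdx Q P :=
  ramIdx_eq (isOverWith_comapEquiv σ (isOverWith_ramIdx h))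

/-- The Galois group acts transitively on the places above `P`. -/
theorem exists_comapEquiv_eq [FiniteDimensional K K'] [IsGalois K K'] {Q₁ Q₂ : Place k K'}
    {P : Place k K} (h₁ : IsOver Q₁ P) (h₂ : IsOver Q₂ P) :
    ∃ σ : K' ≃ₐ[K] K', comapEquiv Q₁ σ = Q₂ := by
  classical
  by_contra hcon
  push Not at hcon
  let S : Finset (Place k K') := (Finset.univ.image fun σ : K' ≃ₐ[K] K' => comapEquiv Q₁ σ) ∪
    (Finset.univ.image fun σ : K' ≃ₐ[K] K' => comapEquiv Q₂ σ)
  obtain ⟨y, hy⟩ := K664.weak_approx_le S (fun R => if R = Q₂ then 0 else 1)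
    (fun _ => 1)
  have hy1 : ∀ R ∈ S, R ≠ Q₂ → R.1 y = 1 := by
    intro R hR hne
    have h3 := hy R hR
    rw [if_neg hne] at h3
    have h4 : R.1 (y - 1) < R.1 1 := by
      rw [map_one]
      refine h3.trans_lt ?_
      rw [← exp_zero, exp_lt_exp]
      omega
    have h5 := Valuation.map_add_eq_of_lt_right R.1 h4
    rwa [sub_add_cancel, map_one] at h5
  have hQ₂S : Q₂ ∈ S := by
    refine Finset.mem_union_right _ (Finset.mem_image.2 ⟨1, Finset.mem_univ _, ?_⟩)
    exact comapEquiv_one Q₂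
  have hy2 : Q₂.1 y < 1 := by
    have h3 := hy Q₂ hQ₂S
    rw [if_pos rfl, sub_zero] at h3
    refine h3.trans_lt ?_
    rw [← exp_zero, exp_lt_exp]
    omega
  have hN := Algebra.norm_eq_prod_automorphisms K y
  have hN1 : Q₁.1 (algebraMap K K' (Algebra.norm K y)) = 1 := by
    rw [hN, map_prod]
    refine Finset.prod_eq_one fun σ _ => ?_
    exact hy1 (comapEquiv Q₁ σ) (Finset.mem_union_left _
      (Finset.mem_image.2 ⟨σ, Finset.mem_univ _, rfl⟩)) (hcon σ)
  have hN2 : Q₂.1 (algebraMap K K' (Algebra.norm K y)) < 1 := by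
    rw [hN, map_prod, ← Finset.mul_prod_erase Finset.univ _ (Finset.mem_univ 1)]
    refine mul_lt_one_of_lt_of_le hy2 ?_
    refine Finset.prod_le_one' fun σ _ => ?_
    by_cases hσ : comapEquiv Q₂ σ = Q₂
    · have : Q₂.1 (σ y) = Q₂.1 y := by rw [← comapEquiv_val, hσ]
      rw [this]
      exact hy2.le
    · exact (hy1 (comapEquiv Q₂ σ) (Finset.mem_union_right _
        (Finset.mem_image.2 ⟨σ, Finset.mem_univ _, rfl⟩)) hσ).le
  have h3 := (val_algebraMap_lt_one_iff h₂ _).1 hN2
  have h4 := (val_algebraMap_lt_one_iff h₁ _).2 h3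
  rw [hN1] at h4
  exact lt_irrefl _ h4

theorem eq_of_isPurelyInseparable [IsPurelyInseparable K K'] {Q₁ Q₂ : Place k K'}
    {P : Place k K} (h₁ : IsOver Q₁ P) (h₂ : IsOver Q₂ P) : Q₁ = Q₂ := by
  refine ext_le fun x => ?_
  obtain ⟨n, y, hy⟩ := IsPurelyInseparable.pow_mem K (ringExpChar K) x
  have h0 : (ringExpChar K) ^ n ≠ 0 := pow_ne_zero _ (expChar_pos K (ringExpChar K)).ne'
  rw [← pow_le_one_iff h0, ← map_pow, ← hy, val_algebraMap_le_one_iff h₁,
    ← val_algebraMap_le_one_iff h₂, hy, map_pow, pow_le_one_iff h0]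

end K661.Galois
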