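import Groth.Prelude.Def_W4bk4goldsch23FF
import Groth.Agent.Cohder.HWLD
import Groth.Agent.Fdesc.GeomRed
import Mathlib.Algebra.Field.Shrink
import Mathlib.Algebra.Algebra.Shrink
import Mathlib.FieldTheory.PurelyInseparable.Basic

/-!
# Geometric extensions

* `isField`: universe-free form of `IsGeometric`; `isDomain_left/right`;
* `mem_range_of_isAlgebraic`: elements algebraic over `k` are constants;
* `of_tower`: subextensions of a geometric extension are geometric;
* `isField_of_separable`: `E ⊗ K` is a field for `E/k` algebraic separable if `k` is algebraically closed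
  in `K`;
* `isGeometric_of_isReduced`: `k` algebraically closed in `K` and `L ⊗ K` reduced for all finite `L/k`
  implies geometric;
* `isGeometric_of_isSeparable`: `K/k(s)` algebraic separable and `k` algebraically closed in `K`
  implies geometric.
-/

set_option autoImplicit false
open FunFld TensorProduct Polynomial Module

namespace K661.Geom

universe u v w x

section Basic

variable {k : Type u} {K : Type v} [Field k] [Field K] [Algebra k K]

/-- Universe-free form of `IsGeometric`. -/
theorem isField (hg : IsGeometric k K) (L : Type w) [Field L] [Algebra k L]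
    [FiniteDimensional k L] : IsField (L ⊗[k] K) := by
  have hs : Small.{u} L := ⟨_, ⟨(Module.finBasis k L).equivFun.toEquiv⟩⟩
  have h2 : FiniteDimensional k (Shrink.{u} L) :=
    Module.Finite.equiv (Shrink.linearEquiv k L).symm
  exact MulEquiv.isField (hg (Shrink.{u} L) h2)
    (Algebra.TensorProduct.congr (Shrink.algEquiv k L).symm AlgEquiv.refl).toMulEquiv

theorem isField' (hg : IsGeometric k K) (L : Type w) [Field L] [Algebra k L]
    [FiniteDimensional k L] : IsField (K ⊗[k] L) :=
  MulEquiv.isField (isField hg L) (Algebra.TensorProduct.comm k K L).toMulEquiv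

/-- A finite base change of a field which is a domain is a field. -/
theorem isField_of_isDomain (L : Type w) [Field L] [Algebra k L] [FiniteDimensional k L]
    (h : IsDomain (K ⊗[k] L)) : IsField (K ⊗[k] L) := by
  have : Algebra.IsIntegral K (K ⊗[k] L) := inferInstance
  exact isField_of_isIntegral_of_isField' (R := K) (Field.toIsField K)

/-- In a geometric extension the elements algebraic over `k` are constants. -/
theorem mem_range_of_isAlgebraic (hg : IsGeometric k K) {y : K} (hy : IsAlgebraic k y) :
    y ∈ Set.range (algebraMap k K) := by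
  have hfin : FiniteDimensional k (IntermediateField.adjoin k {y}) :=
    IntermediateField.adjoin.finiteDimensional hy.isIntegral
  let L := IntermediateField.adjoin k {y}
  let f : K ⊗[k] L →ₐ[K] K := Algebra.TensorProduct.productLeftAlgHom (Algebra.ofId K K) L.val
  have hF := isField' hg L
  let := hF.toField
  have hinj : Function.Injective f := f.toRingHom.injective
  have h1 : Module.finrank K (K ⊗[k] L) ≤ Module.finrank K K :=
    LinearMap.finrank_le_finrank_of_injective (f := f.toLinearMap) hinj
  rw [Module.finrank_baseChange, Module.finrank_self] at h1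
  have h2 : Module.finrank k L = 1 := le_antisymm h1 Module.finrank_pos
  have h3 : L = ⊥ := IntermediateField.finrank_eq_one_iff.1 h2
  have h4 : y ∈ L := IntermediateField.mem_adjoin_simple_self k y
  rw [h3, IntermediateField.mem_bot] at h4
  exact h4

/-- Subextensions of a geometric extension are geometric. -/
theorem of_tower {K₀ : Type w} [Field K₀] [Algebra k K₀] [Algebra K₀ K] [IsScalarTower k K₀ K]
    (hg : IsGeometric k K) : IsGeometric k K₀ := by
  intro L _ _ hL
  have h1 := isField hg L
  let := h1.toField
  have hinj : Function.Injective (Algebra.TensorProduct.map (AlgHom.id k L)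
      (IsScalarTower.toAlgHom k K₀ K)) :=
    Module.Flat.lTensor_preserves_injective_linearMap (M := L)
      (IsScalarTower.toAlgHom k K₀ K).toLinearMap (algebraMap K₀ K).injective
  have h2 : IsDomain (L ⊗[k] K₀) := Function.Injective.isDomain
    (Algebra.TensorProduct.map (AlgHom.id k L) (IsScalarTower.toAlgHom k K₀ K)).toRingHom hinj
  have h3 : IsDomain (K₀ ⊗[k] L) := (Algebra.TensorProduct.comm k K₀ L).toMulEquiv.isDomain
  exact MulEquiv.isField (isField_of_isDomain L h3) (Algebra.TensorProduct.comm k L K₀).toMulEquiv

end Basic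

section Sep

/-- Linear disjointness of an extension in which `k` is algebraically closed and of a separable
algebraic extension. -/
theorem linearDisjoint {k : Type u} {Ω : Type v} [Field k] [Field Ω] [Algebra k Ω]
    (A B : IntermediateField k Ω)
    (hk : ∀ x : A, IsIntegral k x → x ∈ (algebraMap k A).range) [hB : Algebra.IsSeparable k B] :
    A.LinearDisjoint B := by
  rw [IntermediateField.linearDisjoint_iff']
  have : Algebra.IsIntegral k B.toSubalgebra := Algebra.IsAlgebraic.isIntegral (K := k) (A := B)
  apply Subalgebra.LinearDisjoint.of_linearDisjoint_finite_right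
  intro B' hB' hfin
  have hf : IsField B' := by
    have : Algebra.IsIntegral k B' := inferInstance
    exact isField_of_isIntegral_of_isField' (R := k) (Field.toIsField k)
  let C : IntermediateField k Ω := B'.toIntermediateField' hf
  have hC : FiniteDimensional k C := hfin
  have hCB : C ≤ B := hB'
  have hCsep : Algebra.IsSeparable k C := by
    let := (IntermediateField.inclusion hCB).toRingHom.toAlgebra
    exact Algebra.IsSeparable.of_algHom k B (IntermediateField.inclusion hCB)
  let pb := Field.powerBasisOfFiniteOfSeparable k C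
  let b : Basis (Fin pb.dim) k B' := pb.basis
  apply Subalgebra.LinearDisjoint.of_basis_right _ _ b
  have hgen : IsIntegral k (pb.gen : Ω) := by
    have := Algebra.IsIntegral.isIntegral (R := k) pb.gen
    exact this.map C.val
  have hdeg : pb.dim = (minpoly A (pb.gen : Ω)).natDegree := by
    rw [Groth.Agent.Cohder.HWLD.natDegree_minpoly_eq hk hgen, ← pb.natDegree_minpoly]
    congr 1
    exact (minpoly.algebraMap_eq (algebraMap C Ω).injective pb.gen).symm
  have h1 := linearIndependent_pow (K := A) (pb.gen : Ω)
  rw [← hdeg] at h1
  have h2 : (B'.val ∘ b) = fun i : Fin pb.dim => (pb.gen : Ω) ^ (i : ℕ) := by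
    funext i
    change ((pb.basis i : C) : Ω) = _
    rw [PowerBasis.basis_eq_pow]
    rfl
  rw [h2]
  exact h1

theorem isField_of_separable {k : Type u} {F : Type v} {E : Type w} [Field k] [Field F] [Field E]
    [Algebra k F] [Algebra k E] (hk : ∀ x : F, IsAlgebraic k x → x ∈ Set.range (algebraMap k F))
    [Algebra.IsSeparable k E] : IsField (F ⊗[k] E) := by
  apply IntermediateField.LinearDisjoint.isField_of_forall
  intro Ω _ _ fa fb
  have : Algebra.IsSeparable k fb.fieldRange :=
    Algebra.IsSeparable.of_algHom k E (AlgEquiv.ofInjectiveField fb).symm.toAlgHom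
  apply linearDisjoint
  rintro ⟨_, ⟨x, rfl⟩⟩ hx
  have h1 : IsIntegral k (fa x) := hx.map fa.fieldRange.val
  have h2 : IsIntegral k x := (isIntegral_algHom_iff fa fa.injective).1 h1
  obtain ⟨a, rfl⟩ := hk x h2.isAlgebraic
  refine ⟨a, ?_⟩
  apply Subtype.ext
  exact (fa.commutes a).symm

end Sep

section Red

variable {k : Type u} {K : Type v} [Field k] [Field K] [Algebra k K]

/-- If `K ⊗ E` is a field, `L/E` is purely inseparable and `K ⊗ L` is reduced then `K ⊗ L` is a
domain. -/
theorem isDomain_of_isPurelyInseparable (E : Type x) (L : Type w) [Field E] [Field L] [Algebra k E]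
    [Algebra k L] [Algebra E L] [IsScalarTower k E L] [IsPurelyInseparable E L]
    (hE : IsField (K ⊗[k] E)) (hred : IsReduced (K ⊗[k] L)) : IsDomain (K ⊗[k] L) := by
  let j : K ⊗[k] E →ₐ[K] K ⊗[k] L :=
    Algebra.TensorProduct.map (AlgHom.id K K) (IsScalarTower.toAlgHom k E L)
  have hq : ExpChar k (ringExpChar k) := inferInstance
  have hqS : ExpChar E (ringExpChar k) :=
    expChar_of_injective_algebraMap (algebraMap k E).injective (ringExpChar k)
  have hnt : Nontrivial (K ⊗[k] L) := inferInstance
  have hqT : ExpChar (K ⊗[k] L) (ringExpChar k) :=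
    expChar_of_injective_algebraMap (algebraMap k (K ⊗[k] L)).injective (ringExpChar k)
  -- high powers come from `K ⊗ E`
  have hpow : ∀ z : K ⊗[k] L, ∃ n : ℕ, ∃ y, j y = z ^ (ringExpChar k) ^ n := by
    intro z
    induction z using TensorProduct.induction_on with
    | zero =>
      refine ⟨0, 0, ?_⟩
      rw [map_zero, pow_zero, pow_one]
    | tmul a b =>
      obtain ⟨n, c, hc⟩ := IsPurelyInseparable.pow_mem E (ringExpChar k) b
      refine ⟨n, (a ^ (ringExpChar k) ^ n) ⊗ₜ c, ?_⟩
      rw [Algebra.TensorProduct.tmul_pow, ← hc]
      rfl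
    | add a b ha hb =>
      obtain ⟨n, y, hy⟩ := ha
      obtain ⟨m, w, hw⟩ := hb
      refine ⟨n + m, y ^ (ringExpChar k) ^ m + w ^ (ringExpChar k) ^ n, ?_⟩
      rw [add_pow_expChar_pow, map_add, map_pow, map_pow, hy, hw, ← pow_mul, ← pow_mul, ← pow_add,
        ← pow_add, add_comm m n]
  have hjinj : Function.Injective j := by
    let := hE.toField
    exact j.toRingHom.injective
  have hnz : ∀ a b : K ⊗[k] E, a * b = 0 → a = 0 ∨ b = 0 := by
    let := hE.toField
    intro a b hab
    exact mul_eq_zero.1 hab
  have hpz : ∀ (a : K ⊗[k] E) (n : ℕ), a ^ n = 0 → a = 0 := by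
    let := hE.toField
    intro a n h
    exact eq_zero_of_pow_eq_zero h
  have : NoZeroDivisors (K ⊗[k] L) := by
    refine ⟨fun {a b} hab => ?_⟩
    obtain ⟨n, y, hy⟩ := hpow a
    obtain ⟨m, w, hw⟩ := hpow b
    have h1 : y ^ (ringExpChar k) ^ m * w ^ (ringExpChar k) ^ n = 0 := by
      apply hjinj
      rw [map_mul, map_pow, map_pow, hy, hw, ← pow_mul, ← pow_mul, ← pow_add, ← pow_add,
        add_comm m n, ← mul_pow, hab, map_zero]
      exact zero_pow (pow_ne_zero _ (expChar_pos k (ringExpChar k)).ne')
    rcases hnz _ _ h1 with h2 | h2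
    · left
      have h3 : y = 0 := hpz _ _ h2
      rw [h3, map_zero] at hy
      exact IsNilpotent.eq_zero ⟨_, hy.symm⟩
    · right
      have h3 : w = 0 := hpz _ _ h2
      rw [h3, map_zero] at hw
      exact IsNilpotent.eq_zero ⟨_, hw.symm⟩
  exact NoZeroDivisors.to_isDomain _

/-- If `k` is algebraically closed in `K` and `K ⊗ L` is reduced, then `K ⊗ L` is a field, for `L/k`
finite. -/
theorem isField_of_isReduced (hk : ∀ x : K, IsAlgebraic k x → x ∈ Set.range (algebraMap k K))
    (L : Type w) [Field L] [Algebra k L] [FiniteDimensional k L] (hred : IsReduced (K ⊗[k] L)) :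
    IsField (K ⊗[k] L) :=
  isField_of_isDomain L (isDomain_of_isPurelyInseparable (separableClosure k L) L
    (isField_of_separable hk) hred)

theorem isGeometric_of_isReduced
    (hk : ∀ x : K, IsAlgebraic k x → x ∈ Set.range (algebraMap k K))
    (hred : ∀ (L : Type u) [Field L] [Algebra k L], FiniteDimensional k L → IsReduced (K ⊗[k] L)) :
    IsGeometric k K := by
  intro L _ _ hL
  exact MulEquiv.isField (isField_of_isReduced hk L (hred L hL))
    (Algebra.TensorProduct.comm k L K).toMulEquiv

/-- If `K/k(s)` is algebraic separable, `s` algebraically independent over `k`, and `k` is algebraically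
closed in `K`, then `K/k` is geometric. -/
theorem isGeometric_of_isSeparable [Algebra.EssFiniteType k K]
    (hk : ∀ x : K, IsAlgebraic k x → x ∈ Set.range (algebraMap k K))
    (s : Set K) (hs : AlgebraicIndependent k ((↑) : s → K))
    (hsep : Algebra.IsSeparable (IntermediateField.adjoin k s) K) : IsGeometric k K :=
  isGeometric_of_isReduced hk fun L _ _ _ =>
    Groth.Agent.Fdesc.GeomRed.isReduced_tensor_of_algebraicIndependent_of_isSeparable K s hs hsep L

theorem isGeometric_of_isSeparable_singleton [Algebra.EssFiniteType k K]
    (hk : ∀ x : K, IsAlgebraic k x → x ∈ Set.range (algebraMap k K))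
    (t : K) (ht : Transcendental k t)
    (hsep : Algebra.IsSeparable (IntermediateField.adjoin k {t}) K) : IsGeometric k K := by
  refine isGeometric_of_isSeparable hk {t} ?_ hsep
  rw [algebraicIndependent_unique_type_iff]
  exact ht

end Red

end K661.Geom
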