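import Groth.Agent.FunFld.K661.Place
import Mathlib.RingTheory.Unramified.Field
import Mathlib.RingTheory.Flat.Basic
import Mathlib.LinearAlgebra.TensorProduct.RightExactness
import Mathlib.RingTheory.Polynomial.ScaleRoots

/-!
# The valuation ring of a place after extension of scalars

`K' = k' ⊗_k K` (hypothesis `h`), `P` a place of `K`. If `k' ⊗_k F_P` is reduced then the image of
`k' ⊗_k O_P` is the integral closure of `O_P` in `K'`.
-/

set_option autoImplicit false
open WithZero FunFld K661.Place TensorProduct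

namespace K661.Scalar

section Red

/-- `k' ⊗ F` is reduced if `k'/k` is finite separable. -/
theorem isReduced_left (k k' F : Type*) [Field k] [Field k'] [Field F] [Algebra k k'] [Algebra k F]
    [FiniteDimensional k k'] [Algebra.IsSeparable k k'] : IsReduced (k' ⊗[k] F) := by
  have h1 : Algebra.FormallyUnramified k k' := Algebra.FormallyUnramified.of_isSeparable k k'
  have h2 : IsReduced (F ⊗[k] k') := Algebra.FormallyUnramified.isReduced_of_field F (F ⊗[k] k')
  exact isReduced_of_injective (Algebra.TensorProduct.comm k k' F)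
    (Algebra.TensorProduct.comm k k' F).injective

/-- `k' ⊗ F` is reduced if `F/k` is finite separable. -/
theorem isReduced_right (k k' F : Type*) [Field k] [Field k'] [Field F] [Algebra k k'] [Algebra k F]
    [FiniteDimensional k F] [Algebra.IsSeparable k F] : IsReduced (k' ⊗[k] F) := by
  have h1 : Algebra.FormallyUnramified k F := Algebra.FormallyUnramified.of_isSeparable k F
  exact Algebra.FormallyUnramified.isReduced_of_field k' (k' ⊗[k] F)

end Red

variable {k k' K K' : Type*} [Field k] [Field k'] [Field K] [Field K']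
  [Algebra k k'] [Algebra k K] [Algebra K K'] [Algebra k' K'] [Algebra k K']
  [IsScalarTower k k' K'] [IsScalarTower k K K']

/-- The map `k' ⊗ K → K'`. -/
noncomputable def mulMap (k k' K K' : Type*) [Field k] [Field k'] [Field K] [Field K']
    [Algebra k k'] [Algebra k K] [Algebra K K'] [Algebra k' K'] [Algebra k K']
    [IsScalarTower k k' K'] [IsScalarTower k K K'] : k' ⊗[k] K →ₐ[k] K' :=
  Algebra.TensorProduct.productMap (IsScalarTower.toAlgHom k k' K') (IsScalarTower.toAlgHom k K K')

@[simp] theorem mulMap_tmul (a : k') (x : K) :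
    mulMap k k' K K' (a ⊗ₜ x) = algebraMap k' K' a * algebraMap K K' x := rfl

variable (P : Place k K)

/-- The inclusion `P.O → K` as a `k`-algebra map. -/
def inclO : P.O →ₐ[k] K := { P.O.subtype with commutes' := fun _ => rfl }

@[simp] theorem inclO_apply (x : P.O) : inclO P x = (x : K) := rfl

/-- The residue map as a `k`-algebra map. -/
noncomputable def resO : P.O →ₐ[k] IsLocalRing.ResidueField P.O :=
  { IsLocalRing.residue P.O with commutes' := fun _ => rfl }

@[simp] theorem resO_apply (x : P.O) : resO P x = IsLocalRing.residue P.O x := rfl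

theorem resO_surjective : Function.Surjective (resO P) := IsLocalRing.residue_surjective

theorem resO_ker : RingHom.ker (resO P) = IsLocalRing.maximalIdeal P.O := IsLocalRing.ker_residue

variable {F : Type*} [Field F] [Algebra k F] (ρ : P.O →ₐ[k] F)

/-- The map `k' ⊗ P.O → K'`. -/
noncomputable def mapO (k' K' : Type*) [Field k'] [Field K']
    [Algebra k k'] [Algebra K K'] [Algebra k' K'] [Algebra k K']
    [IsScalarTower k k' K'] [IsScalarTower k K K'] : k' ⊗[k] P.O →ₐ[k] K' :=
  (mulMap k k' K K').comp (Algebra.TensorProduct.map (AlgHom.id k k') (inclO P))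

@[simp] theorem mapO_tmul (a : k') (x : P.O) :
    mapO P k' K' (a ⊗ₜ x) = algebraMap k' K' a * algebraMap K K' (x : K) := by
  simp [mapO]

/-- The reduction `k' ⊗ P.O → k' ⊗ F`. -/
noncomputable def redO (k' : Type*) [Field k'] [Algebra k k'] :
    k' ⊗[k] P.O →ₐ[k] k' ⊗[k] F :=
  Algebra.TensorProduct.map (AlgHom.id k k') ρ

@[simp] theorem redO_tmul (a : k') (x : P.O) :
    redO P ρ k' (a ⊗ₜ x) = a ⊗ₜ ρ x := by
  simp [redO]

theorem mapO_injective (h : Function.Bijective (mulMap k k' K K')) :
    Function.Injective (mapO P k' K') := by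
  refine h.1.comp ?_
  exact Module.Flat.lTensor_preserves_injective_linearMap (inclO P).toLinearMap
    Subtype.val_injective

theorem redO_surjective (hρ : Function.Surjective ρ) : Function.Surjective (redO P ρ k') :=
  LinearMap.lTensor_surjective k' (g := ρ.toLinearMap) hρ

theorem ker_redO (hρ : Function.Surjective ρ) {π : P.O} (hπ : RingHom.ker ρ = Ideal.span {π})
    {y : k' ⊗[k] P.O} (hy : redO P ρ k' y = 0) : ∃ z, y = (1 ⊗ₜ π) * z := by
  have h1 : RingHom.ker (redO P ρ k') = (RingHom.ker ρ).map
      (Algebra.TensorProduct.includeRight : P.O →ₐ[k] k' ⊗[k] P.O) :=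
    Algebra.TensorProduct.lTensor_ker (A := k') ρ hρ
  have h3 : y ∈ RingHom.ker (redO P ρ k') := hy
  rw [h1, hπ, Ideal.map_span, Set.image_singleton, Ideal.mem_span_singleton'] at h3
  obtain ⟨z, hz⟩ := h3
  exact ⟨z, by rw [← hz, mul_comm]; rfl⟩

theorem redO_unif {π : P.O} (hπ : RingHom.ker ρ = Ideal.span {π}) :
    redO P ρ k' (1 ⊗ₜ π) = 0 := by
  have h1 : π ∈ RingHom.ker ρ := by
    rw [hπ]
    exact Ideal.mem_span_singleton_self π
  have h2 : ρ π = 0 := h1
  rw [redO_tmul, h2, TensorProduct.tmul_zero]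

theorem exists_pi : ∃ π : P.O, IsLocalRing.maximalIdeal P.O = Ideal.span {π} ∧
    P.1 (π : K) = exp (-1 : ℤ) := by
  obtain ⟨π, hπ⟩ := exists_unif P
  have h1 : P.1 π ≤ 1 := by
    rw [hπ, ← exp_zero, exp_le_exp]
    omega
  refine ⟨⟨π, h1⟩, ?_, hπ⟩
  ext x
  rw [mem_maximalIdeal_iff, Ideal.mem_span_singleton', val_lt_one_iff_le]
  have hπ0 : π ≠ 0 := by
    rintro rfl
    rw [map_zero] at hπ
    exact exp_ne_zero hπ.symm
  constructor
  · intro hx
    refine ⟨⟨x / π, ?_⟩, Subtype.ext (div_mul_cancel₀ _ hπ0)⟩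
    rw [Valuation.mem_valuationSubring_iff, map_div₀, hπ]
    exact div_le_one_of_le₀ hx zero_le
  · rintro ⟨y, rfl⟩
    change P.1 ((y : K) * π) ≤ _
    rw [map_mul, hπ]
    exact mul_le_of_le_one_left' y.2

variable [Algebra P.O K'] [IsScalarTower P.O K K']

theorem mapO_one_tmul (x : P.O) : mapO P k' K' (1 ⊗ₜ x) = algebraMap P.O K' x := by
  rw [mapO_tmul, map_one, one_mul, IsScalarTower.algebraMap_apply P.O K K']
  rfl

/-- Key step: if `π x` is in the image of `k' ⊗ P.O` and `x` is integral, then `x` is in the image. -/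
theorem exists_of_isIntegral_step (h : Function.Bijective (mulMap k k' K K'))
    (hρ : Function.Surjective ρ) (hred : IsReduced (k' ⊗[k] F)) {π : P.O}
    (hπ : RingHom.ker ρ = Ideal.span {π}) (hπ0 : (π : K) ≠ 0) {x : K'}
    (hx : IsIntegral P.O x) {y : k' ⊗[k] P.O}
    (hy : mapO P k' K' y = algebraMap K K' (π : K) * x) : ∃ z, mapO P k' K' z = x := by
  obtain ⟨p, hp, hpx⟩ := hx
  -- `y` is a root of the scaled polynomial
  have h1 : Polynomial.eval₂ (algebraMap P.O K') (mapO P k' K' y) (Polynomial.scaleRoots p π) = 0 := by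
    have h2 : mapO P k' K' y = algebraMap P.O K' π * x := by
      rw [hy, IsScalarTower.algebraMap_apply P.O K K']
      rfl
    rw [h2]
    exact Polynomial.scaleRoots_eval₂_eq_zero _ hpx
  let ι : P.O →+* k' ⊗[k] P.O := (Algebra.TensorProduct.includeRight : P.O →ₐ[k] k' ⊗[k] P.O)
  have h3 : (mapO P k' K' : k' ⊗[k] P.O →+* K').comp ι = algebraMap P.O K' := by
    ext r
    exact mapO_one_tmul P r
  have h4 : Polynomial.eval₂ ι y (Polynomial.scaleRoots p π) = 0 := by
    apply mapO_injective P h
    rw [map_zero]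
    have h5 := Polynomial.hom_eval₂ (Polynomial.scaleRoots p π) ι
      (mapO P k' K' : k' ⊗[k] P.O →+* K') y
    rw [h3] at h5
    exact h5.trans h1
  -- reduce modulo `π`
  have h6 : redO P ρ k' y ^ p.natDegree = 0 := by
    have h7 := Polynomial.hom_eval₂ (Polynomial.scaleRoots p π) ι
      (redO P ρ k' : k' ⊗[k] P.O →+* k' ⊗[k] F) y
    rw [h4, map_zero] at h7
    have h8 : ((redO P ρ k' : k' ⊗[k] P.O →+* k' ⊗[k] F).comp ι) π = 0 :=
      redO_unif P ρ hπ
    rw [Polynomial.eval₂_eq_sum_range, Polynomial.natDegree_scaleRoots,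
      Finset.sum_range_succ] at h7
    rw [Finset.sum_eq_zero, zero_add, Polynomial.coeff_scaleRoots_natDegree,
      hp.leadingCoeff, map_one, one_mul] at h7
    · exact h7.symm
    · intro i hi
      rw [Finset.mem_range] at hi
      rw [Polynomial.coeff_scaleRoots, map_mul, map_pow, h8,
        zero_pow (by omega), mul_zero, zero_mul]
  have h9 : redO P ρ k' y = 0 := IsNilpotent.eq_zero ⟨_, h6⟩
  obtain ⟨z, hz⟩ := ker_redO P ρ hρ hπ h9
  refine ⟨z, ?_⟩
  rw [hz, map_mul, mapO_tmul, map_one, one_mul] at hy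
  exact mul_left_cancel₀ (by simpa using hπ0) hy

/-- Every element of `K'` becomes an element of the image after multiplication by a power of `π`. -/
theorem exists_pow_mul_mem (h : Function.Bijective (mulMap k k' K K')) {π : P.O}
    (hπv : P.1 (π : K) = exp (-1 : ℤ)) (x : K') :
    ∃ (n : ℕ) (y : k' ⊗[k] P.O), mapO P k' K' y = algebraMap K K' (π : K) ^ n * x := by
  obtain ⟨r, rfl⟩ := h.2 x
  induction r using TensorProduct.induction_on with
  | zero => exact ⟨0, 0, by simp⟩
  | tmul a z =>
    by_cases hz : z = 0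
    · exact ⟨0, 0, by simp [hz]⟩
    refine ⟨(-(P.ord z)).toNat, a ⊗ₜ ⟨(π : K) ^ (-(P.ord z)).toNat * z, ?_⟩, ?_⟩
    · rw [Valuation.mem_valuationSubring_iff, map_mul, map_pow, hπv, ← exp_nsmul,
        val_eq_exp P hz, ← exp_add, ← exp_zero, exp_le_exp, nsmul_eq_mul]
      have := Int.self_le_toNat (-(P.ord z))
      omega
    · rw [mapO_tmul, mulMap_tmul]
      simp only [map_mul, map_pow]
      ring
  | add r s hr hs =>
    obtain ⟨n, y, hy⟩ := hr
    obtain ⟨m, w, hw⟩ := hs
    refine ⟨n + m, (1 ⊗ₜ π) ^ m * y + (1 ⊗ₜ π) ^ n * w, ?_⟩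
    rw [map_add, map_mul, map_mul, hy, hw, map_pow, map_pow, mapO_tmul, map_one, one_mul, map_add]
    ring

/-- Integral elements come from `k' ⊗ P.O`. -/
theorem exists_of_isIntegral (h : Function.Bijective (mulMap k k' K K'))
    (hρ : Function.Surjective ρ) (hker : RingHom.ker ρ = IsLocalRing.maximalIdeal P.O)
    (hred : IsReduced (k' ⊗[k] F)) {x : K'}
    (hx : IsIntegral P.O x) : ∃ z, mapO P k' K' z = x := by
  obtain ⟨π, hπ, hπv⟩ := exists_pi P
  have hπ0 : (π : K) ≠ 0 := by
    intro h0
    rw [h0, map_zero] at hπv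
    exact exp_ne_zero hπv.symm
  obtain ⟨n, y, hy⟩ := exists_pow_mul_mem (K' := K') P h hπv x
  induction n generalizing y with
  | zero => exact ⟨y, by rw [hy, pow_zero, one_mul]⟩
  | succ n ih =>
    have h1 : IsIntegral P.O (algebraMap K K' (π : K) ^ n * x) := by
      have h2 : algebraMap K K' (π : K) = algebraMap P.O K' π := by
        rw [IsScalarTower.algebraMap_apply P.O K K']
        rfl
      rw [h2]
      exact (isIntegral_algebraMap.pow n).mul hx
    obtain ⟨z, hz⟩ := exists_of_isIntegral_step P ρ h hρ hred (hker.trans hπ) hπ0 h1 (y := y) (by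
      rw [hy, pow_succ]
      ring)
    exact ih z hz

theorem isIntegral_mapO [FiniteDimensional k k'] (z : k' ⊗[k] P.O) :
    IsIntegral P.O (mapO P k' K' z) := by
  induction z using TensorProduct.induction_on with
  | zero => rw [map_zero]; exact isIntegral_zero
  | add r s hr hs => rw [map_add]; exact hr.add hs
  | tmul a x =>
    have h1 : mapO P k' K' (a ⊗ₜ x) = algebraMap k' K' a * algebraMap P.O K' x := by
      rw [mapO_tmul, IsScalarTower.algebraMap_apply P.O K K']
      rfl
    rw [h1]
    refine IsIntegral.mul ?_ isIntegral_algebraMap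
    have h2 : IsIntegral k (algebraMap k' K' a) :=
      (Algebra.IsIntegral.isIntegral (R := k) a).algebraMap
    have h3 : IsScalarTower k P.O K' := IsScalarTower.of_algebraMap_eq fun c => by
      rw [IsScalarTower.algebraMap_apply P.O K K', IsScalarTower.algebraMap_apply k K K']
      rfl
    exact h2.tower_top

/-- The integral closure of `P.O` in `K' = k' ⊗ K` is `k' ⊗ P.O` if `k' ⊗ F_P` is reduced. -/
theorem integralClosure_eq_adjoin [FiniteDimensional k k'] (h : Function.Bijective (mulMap k k' K K'))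
    (hρ : Function.Surjective ρ) (hker : RingHom.ker ρ = IsLocalRing.maximalIdeal P.O)
    (hred : IsReduced (k' ⊗[k] F)) :
    (integralClosure P.O K').toSubring =
      (Algebra.adjoin P.O (Set.range (algebraMap k' K'))).toSubring := by
  refine le_antisymm ?_ ?_
  · intro x hx
    obtain ⟨z, rfl⟩ := exists_of_isIntegral P ρ h hρ hker hred (x := x) hx
    change mapO P k' K' z ∈ Algebra.adjoin P.O (Set.range (algebraMap k' K'))
    clear hx
    induction z using TensorProduct.induction_on with
    | zero => rw [map_zero]; exact Subalgebra.zero_mem _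
    | add r s hr hs => rw [map_add]; exact Subalgebra.add_mem _ hr hs
    | tmul a x =>
      have h1 : mapO P k' K' (a ⊗ₜ x) = algebraMap k' K' a * algebraMap P.O K' x := by
        rw [mapO_tmul, IsScalarTower.algebraMap_apply P.O K K']
        rfl
      rw [h1]
      exact Subalgebra.mul_mem _ (Algebra.subset_adjoin ⟨a, rfl⟩) (Subalgebra.algebraMap_mem _ _)
  · intro x hx
    change x ∈ integralClosure P.O K'
    refine Algebra.adjoin_le (S := integralClosure P.O K') ?_ hx
    rintro _ ⟨a, rfl⟩
    have := isIntegral_mapO (K' := K') P (a ⊗ₜ[k] (1 : P.O))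
    rw [mapO_tmul] at this
    change IsIntegral P.O _
    simpa using this

end K661.Scalar
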