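import Groth.Agent.FunFld.K661.OverFF
import Groth.Agent.FunFld.K661.Scalar
import Groth.Agent.FunFld.K664.WeakApprox
import Mathlib.LinearAlgebra.Dimension.Constructions

/-!
# Integral elements and places above; finite constant extensions are unramified

* `isIntegral_iff`: `x : K'` is integral over `P.O` iff it is integral at all places above `P`;
* `ramIdx_eq_one`: if `K' = k' ⊗ K` and `k' ⊗ F_P` is reduced then `e(Q|P) = 1`.
-/

set_option autoImplicit false
set_option linter.unusedSectionVars false
open WithZero FunFld IsDedekindDomain K661.Place K661.Over K660.Places K661.OverFF TensorProduct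

namespace K661.OverInt

section Int

variable {k K K' : Type*} [Field k] [Field K] [Field K'] [Algebra k K] [Algebra K K']
  [Algebra k K'] [IsScalarTower k K K'] [FiniteDimensional K K']

theorem val_le_one_of_isIntegral (P : Place k K) [Algebra P.O K'] [IsScalarTower P.O K K']
    {Q : Place k K'} (hQ : IsOver Q P) {x : K'} (hx : IsIntegral P.O x) : Q.1 x ≤ 1 := by
  refine mem_of_isIntegral Q.O (fun r => ?_) hx
  rw [K661.Place.mem_O, IsScalarTower.algebraMap_apply P.O K K']
  exact (val_algebraMap_le_one_iff hQ _).2 r.2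

theorem isIntegral_iff (hG : ∃ t : K, IsGen k K t) (P : Place k K) [Algebra P.O K']
    [IsScalarTower P.O K K'] {x : K'} :
    IsIntegral P.O x ↔ ∀ Q : Place k K', IsOver Q P → Q.1 x ≤ 1 := by
  constructor
  · intro hx Q hQ
    exact val_le_one_of_isIntegral P hQ hx
  · intro hx
    have hf := finite_O (K' := K') hG P
    have := isDedekind P hf
    have := isFrac (K' := K') P
    obtain ⟨y, hy⟩ := HeightOneSpectrum.mem_integers_of_valuation_le_one
      (R := integralClosure P.O K') K' x (fun v => hx (placeOf P v) (placeOf_isOver P v))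
    rw [← hy]
    exact y.2

end Int

section Fin

variable {k k' K K' : Type*} [Field k] [Field k'] [Field K] [Field K']
  [Algebra k k'] [Algebra k K] [Algebra K K'] [Algebra k' K'] [Algebra k K']
  [IsScalarTower k k' K'] [IsScalarTower k K K']

open K661.Scalar

/-- `K ⊗ k' ≃ K'` as `K`-algebras. -/
noncomputable def mulEquivK (h : Function.Bijective (mulMap k k' K K')) : K ⊗[k] k' ≃ₐ[K] K' :=
  AlgEquiv.ofBijective (Algebra.TensorProduct.productLeftAlgHom (Algebra.ofId K K')
    (IsScalarTower.toAlgHom k k' K')) (by
      have h1 : (Algebra.TensorProduct.productLeftAlgHom (Algebra.ofId K K')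
        (IsScalarTower.toAlgHom k k' K') : K ⊗[k] k' → K') =
          mulMap k k' K K' ∘ Algebra.TensorProduct.comm k K k' := by
        funext x
        induction x using TensorProduct.induction_on with
        | zero => simp
        | tmul a b =>
          simp [mul_comm]
        | add a b ha hb => simp only [map_add, Function.comp_apply] at ha hb ⊢; rw [ha, hb]
      rw [h1]
      exact h.comp (Algebra.TensorProduct.comm k K k').bijective)

/-- `k' ⊗ K ≃ K'` as `k'`-algebras. -/
noncomputable def mulEquivL (h : Function.Bijective (mulMap k k' K K')) : k' ⊗[k] K ≃ₐ[k'] K' :=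
  AlgEquiv.ofBijective (Algebra.TensorProduct.productLeftAlgHom (Algebra.ofId k' K')
    (IsScalarTower.toAlgHom k K K')) (by
      have h1 : (Algebra.TensorProduct.productLeftAlgHom (Algebra.ofId k' K')
        (IsScalarTower.toAlgHom k K K') : k' ⊗[k] K → K') = mulMap k k' K K' := by
        funext x
        induction x using TensorProduct.induction_on with
        | zero => simp
        | tmul a b =>
          simp
        | add a b ha hb => simp only [map_add] at ha hb ⊢; rw [ha, hb]
      rw [h1]
      exact h)

theorem finiteDimensional [FiniteDimensional k k'] (h : Function.Bijective (mulMap k k' K K')) :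
    FiniteDimensional K K' :=
  Module.Finite.equiv (mulEquivK h).toLinearEquiv

theorem finrank_eq (h : Function.Bijective (mulMap k k' K K')) :
    Module.finrank K K' = Module.finrank k k' := by
  rw [← (mulEquivK h).toLinearEquiv.finrank_eq, Module.finrank_baseChange]

end Fin

section Ram

variable {k k' K K' : Type*} [Field k] [Field k'] [Field K] [Field K']
  [Algebra k k'] [Algebra k K] [Algebra K K'] [Algebra k' K'] [Algebra k K']
  [IsScalarTower k k' K'] [IsScalarTower k K K']

open K661.Scalar

variable {F : Type*} [Field F] [Algebra k F]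

/-- A finite constant extension with `k' ⊗ F_P` reduced is unramified above `P`. -/
theorem ramIdx_eq_one [FiniteDimensional k k'] (h : Function.Bijective (mulMap k k' K K'))
    (hG : ∃ t : K, IsGen k K t) (P : Place k K) (ρ : P.O →ₐ[k] F)
    (hρ : Function.Surjective ρ) (hker : RingHom.ker ρ = IsLocalRing.maximalIdeal P.O)
    (hred : IsReduced (k' ⊗[k] F)) {Q : Place k K'} (hQ : IsOver Q P) : ramIdx Q P = 1 := by
  classical
  have := finiteDimensional h
  let := algO P K'
  have := towerO P K'
  have hfin := finite_over (K' := K') hG P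
  obtain ⟨π, hπ, hπv⟩ := exists_pi P
  have hπ0 : (π : K) ≠ 0 := by
    intro h0
    rw [h0, map_zero] at hπv
    exact exp_ne_zero hπv.symm
  -- an element of order one at all places above `P`
  obtain ⟨z, hz⟩ := K664.weak_approx_eq hfin.toFinset (fun _ => (0 : K')) (fun _ => 1)
  have hz' : ∀ Q' : Place k K', IsOver Q' P → Q'.1 z = exp (-1 : ℤ) := by
    intro Q' hQ'
    have := hz Q' (by simpa using hQ')
    rwa [sub_zero] at this
  have hz1 : IsIntegral P.O z := by
    rw [isIntegral_iff hG P]
    intro Q' hQ'
    rw [hz' Q' hQ', ← exp_zero, exp_le_exp]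
    omega
  obtain ⟨y, hy⟩ := exists_of_isIntegral P ρ h hρ hker hred hz1
  -- a big power of `z` is divisible by `π`
  obtain ⟨N, hN⟩ : ∃ N : ℕ, ∀ Q' : Place k K', IsOver Q' P → ramIdx Q' P ≤ N := by
    refine ⟨hfin.toFinset.sup fun Q' => ramIdx Q' P, fun Q' hQ' => ?_⟩
    exact Finset.le_sup (f := fun Q' : Place k K' => ramIdx Q' P) (by simpa using hQ')
  have hπ' : ∀ Q' : Place k K', IsOver Q' P →
      Q'.1 (algebraMap K K' (π : K)) = exp (-(ramIdx Q' P : ℤ)) := by
    intro Q' hQ'
    rw [val_algebraMap hQ', hπv, ← exp_nsmul]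
    congr 1
    simp
  have h1 : IsIntegral P.O (z ^ N / algebraMap K K' (π : K)) := by
    rw [isIntegral_iff hG P]
    intro Q' hQ'
    rw [map_div₀, map_pow, hz' Q' hQ', hπ' Q' hQ', ← exp_nsmul, ← exp_sub, ← exp_zero, exp_le_exp]
    have := hN Q' hQ'
    simp only [nsmul_eq_mul, mul_neg, mul_one]
    omega
  obtain ⟨w, hw⟩ := exists_of_isIntegral P ρ h hρ hker hred h1
  have h2 : y ^ N = (1 ⊗ₜ π) * w := by
    apply mapO_injective P h
    rw [map_pow, hy, map_mul, hw, mapO_tmul, map_one, one_mul,
      mul_div_cancel₀ _ (by simpa using hπ0)]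
  have h3 : redO P ρ k' y = 0 := by
    refine IsNilpotent.eq_zero ⟨N, ?_⟩
    rw [← map_pow, h2, map_mul, redO_unif P ρ (hker.trans hπ), zero_mul]
  obtain ⟨u, hu⟩ := ker_redO P ρ hρ (hker.trans hπ) h3
  have h4 : Q.1 z ≤ Q.1 (algebraMap K K' (π : K)) := by
    rw [← hy, hu, map_mul, mapO_tmul, map_one, one_mul, map_mul]
    refine mul_le_of_le_one_right' ?_
    exact val_le_one_of_isIntegral P hQ (isIntegral_mapO P u)
  rw [hz' Q hQ, hπ' Q hQ, exp_le_exp] at h4
  have := ramIdx_pos hQ
  omega

end Ram

end K661.OverInt
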