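import Groth.Agent.FunFld.K661.Geom
import Groth.Agent.FunFld.K661.OverInt
import Groth.Agent.FunFld.K660.Sep

/-!
# Change of fields for generated function fields and for geometric function fields
-/

set_option autoImplicit false
set_option linter.unusedSectionVars false
open FunFld K660.Places TensorProduct

namespace K661.GeomFF

universe u v w x

section Gen

variable {k K K' : Type*} [Field k] [Field K] [Field K'] [Algebra k K] [Algebra K K']
  [Algebra k K'] [IsScalarTower k K K']

/-- The isomorphism `k(t) ≃ k(t')`, `t'` the image of `t`. -/
noncomputable def adjEquiv (t : K) : IntermediateField.adjoin k {t} ≃ₐ[k]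
    IntermediateField.adjoin k {algebraMap K K' t} :=
  (IntermediateField.equivMap (IntermediateField.adjoin k {t})
    (IsScalarTower.toAlgHom k K K')).trans (IntermediateField.equivOfEq (by
      rw [IntermediateField.adjoin_map]
      simp))

theorem adjEquiv_apply (t : K) (x : IntermediateField.adjoin k {t}) :
    ((adjEquiv (K' := K') t x : IntermediateField.adjoin k {algebraMap K K' t}) : K') =
      algebraMap K K' (x : K) := rfl

/-- Subfields containing the generator. -/
theorem isGen_of_algebraMap {t : K} (h : IsGen k K' (algebraMap K K' t)) : IsGen k K t := by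
  refine ⟨fun h1 => h.tr (h1.algebraMap), ?_⟩
  have := h.fin
  have h1 : FiniteDimensional (IntermediateField.adjoin k {t}) K' :=
    Module.Finite.of_equiv_equiv (adjEquiv (K' := K') t).symm.toRingEquiv (RingEquiv.refl K') (by
      ext x
      obtain ⟨y, rfl⟩ := (adjEquiv (K' := K') t).surjective x
      simp
      rfl)
  exact FiniteDimensional.of_injective (IsScalarTower.toAlgHom (IntermediateField.adjoin k {t})
    K K').toLinearMap (algebraMap K K').injective

theorem isSeparable_algebraMap {t : K} [Algebra.IsSeparable (IntermediateField.adjoin k {t}) K]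
    [Algebra.IsSeparable K K'] :
    Algebra.IsSeparable (IntermediateField.adjoin k {algebraMap K K' t}) K' := by
  have h1 : Algebra.IsSeparable (IntermediateField.adjoin k {t}) K' :=
    Algebra.IsSeparable.trans (IntermediateField.adjoin k {t}) K K'
  exact Algebra.IsSeparable.of_equiv_equiv (adjEquiv (K' := K') t).toRingEquiv (RingEquiv.refl K')
    (by
      ext x
      rfl)

end Gen

section Base

variable {k k' K' : Type*} [Field k] [Field k'] [Field K'] [Algebra k k'] [Algebra k' K']
  [Algebra k K'] [IsScalarTower k k' K']

theorem adjoin_le (t : K') : IntermediateField.adjoin k {t} ≤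
    (IntermediateField.adjoin k' {t}).restrictScalars k := by
  rw [IntermediateField.adjoin_simple_le_iff]
  exact IntermediateField.mem_adjoin_simple_self _ t

theorem finite_base {t : K'} (h : FiniteDimensional (IntermediateField.adjoin k {t}) K') :
    FiniteDimensional (IntermediateField.adjoin k' {t}) K' := by
  let _ : Algebra (IntermediateField.adjoin k {t}) (IntermediateField.adjoin k' {t}) :=
    (IntermediateField.inclusion (adjoin_le (k := k) (k' := k') t)).toRingHom.toAlgebra
  have : IsScalarTower (IntermediateField.adjoin k {t}) (IntermediateField.adjoin k' {t}) K' :=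
    IsScalarTower.of_algebraMap_eq fun x => rfl
  exact Module.Finite.of_restrictScalars_finite (IntermediateField.adjoin k {t}) _ K'

theorem isSeparable_base {t : K'} (h : Algebra.IsSeparable (IntermediateField.adjoin k {t}) K') :
    Algebra.IsSeparable (IntermediateField.adjoin k' {t}) K' := by
  let _ : Algebra (IntermediateField.adjoin k {t}) (IntermediateField.adjoin k' {t}) :=
    (IntermediateField.inclusion (adjoin_le (k := k) (k' := k') t)).toRingHom.toAlgebra
  have : IsScalarTower (IntermediateField.adjoin k {t}) (IntermediateField.adjoin k' {t}) K' :=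
    IsScalarTower.of_algebraMap_eq fun x => rfl
  exact Algebra.isSeparable_tower_top_of_isSeparable (IntermediateField.adjoin k {t}) _ K'

theorem isGen_base [Algebra.IsAlgebraic k k'] {t : K'} (h : IsGen k K' t) : IsGen k' K' t :=
  ⟨fun h1 => h.tr (IsAlgebraic.restrictScalars k h1), finite_base h.fin⟩

end Base

section Ext

variable {k : Type u} {k' : Type w} {K : Type v} {K' : Type x} [Field k] [Field k'] [Field K]
  [Field K'] [Algebra k k'] [Algebra k K] [Algebra K K'] [Algebra k' K'] [Algebra k K']
  [IsScalarTower k k' K'] [IsScalarTower k K K']

open K661.Scalar K661.OverInt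

/-- Finite base change of a geometric extension is geometric. -/
theorem isGeometric_ext [FiniteDimensional k k'] (h : Function.Bijective (mulMap k k' K K'))
    (hg : IsGeometric k K) : IsGeometric k' K' := by
  intro L _ _ hL
  let _ : Algebra k L := ((algebraMap k' L).comp (algebraMap k k')).toAlgebra
  have : IsScalarTower k k' L := IsScalarTower.of_algebraMap_eq fun _ => rfl
  have : FiniteDimensional k L := FiniteDimensional.trans k k' L
  have h1 := Geom.isField hg L
  let e1 : L ⊗[k'] K' ≃ₐ[k'] L ⊗[k'] (k' ⊗[k] K) :=
    Algebra.TensorProduct.congr AlgEquiv.refl (mulEquivL h).symm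
  let e2 : L ⊗[k'] (k' ⊗[k] K) ≃ₐ[k'] L ⊗[k] K := Algebra.TensorProduct.cancelBaseChange k k' k' L K
  exact MulEquiv.isField h1 (e1.trans e2).toMulEquiv

end Ext

end K661.GeomFF
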