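import Groth.Agent.FunFld.K661.SepPlace
import Groth.Agent.S10970
import Mathlib.FieldTheory.Perfect

/-!
# Infinitely many places with separable residue field
-/

set_option autoImplicit false
set_option linter.unusedSectionVars false
open WithZero Polynomial FunFld K660.Places K661.Scalar

namespace K661.SepInf

variable {k K : Type*} [Field k] [Field K] [Algebra k K]

theorem notMem_range {t : K} (ht : Transcendental k t) {G : k[X]} (hG : 0 < G.natDegree) :
    aeval t G ∉ Set.range (algebraMap k K) := by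
  rintro ⟨c, hc⟩
  apply ht
  refine ⟨G - C c, ?_, ?_⟩
  · intro h
    rw [sub_eq_zero] at h
    rw [h, natDegree_C] at hG
    exact lt_irrefl _ hG
  · rw [map_sub, aeval_C, hc, sub_self]

theorem exists_zero_aeval (hK : IsFunctionField k K) {t : K} (ht : Transcendental k t) {G : k[X]}
    (hG : 0 < G.natDegree) : ∃ P : Place k K, P.1 (aeval t G) < 1 ∧ P.1 t ≤ 1 := by
  obtain ⟨P, hP⟩ := exists_zero hK (notMem_range ht hG)
  refine ⟨P, hP, ?_⟩
  by_contra h
  have hG0 : G ≠ 0 := by
    rintro rfl
    simp at hG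
  rw [K660.CrvFin.val_aeval h hG0] at hP
  rw [not_le] at h
  exact absurd hP (not_lt.2 (one_le_pow₀ h.le))

theorem infinite_places_of_infinite [Infinite k] (hK : IsFunctionField k K) {t : K}
    (ht : Transcendental k t) :
    {P : Place k K | P.1 t ≤ 1 ∧ ∃ g : k[X], g.Separable ∧ P.1 (aeval t g) < 1}.Infinite := by
  have h1 : ∀ a : k, ∃ P : Place k K, P.1 (aeval t (X - C a)) < 1 ∧ P.1 t ≤ 1 := fun a =>
    exists_zero_aeval hK ht (by rw [natDegree_X_sub_C]; exact one_pos)
  choose P hP1 hP2 using h1
  refine Set.infinite_of_injective_forall_mem (f := P) ?_ fun a =>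
    ⟨hP2 a, X - C a, separable_X_sub_C, hP1 a⟩
  intro a b hab
  by_contra hne
  have h2 := hP1 a
  have h3 := hP1 b
  rw [← hab] at h3
  have h4 : (P a).1 (algebraMap k K (b - a)) < 1 := by
    have h5 : algebraMap k K (b - a) = aeval t (X - C a) - aeval t (X - C b) := by
      simp
    rw [h5]
    exact (Valuation.map_sub _ _ _).trans_lt (max_lt h2 h3)
  rw [K661.Place.val_const (P a) (sub_ne_zero.2 (Ne.symm hne))] at h4
  exact lt_irrefl _ h4

theorem infinite_places_of_perfect [PerfectField k] (hK : IsFunctionField k K) {t : K}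
    (hG : IsGen k K t) :
    {P : Place k K | P.1 t ≤ 1 ∧ ∃ g : k[X], g.Separable ∧ P.1 (aeval t g) < 1}.Infinite := by
  classical
  intro hfin
  have h1 : ∀ P : Place k K, ∃ q : k[X], q.Monic ∧ (P.1 t ≤ 1 → P.1 (aeval t q) < 1) := by
    intro P
    by_cases ht : P.1 t ≤ 1
    · obtain ⟨q, hq, hqP⟩ := K660.CrvFin.exists_aeval_val_lt hG P ht
      exact ⟨q, hq, fun _ => hqP⟩
    · exact ⟨1, monic_one, fun h => absurd h ht⟩
  choose q hq hqP using h1
  let R : k[X] := X * ∏ P ∈ hfin.toFinset, q P
  have hR : R.Monic := monic_X.mul (monic_prod_of_monic _ _ fun P _ => hq P)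
  have hRdeg : 0 < R.natDegree := by
    rw [monic_X.natDegree_mul (monic_prod_of_monic _ _ fun P _ => hq P), natDegree_X]
    omega
  have hdeg : 0 < (R + 1).natDegree := by
    have h2 : (R + 1).natDegree = R.natDegree := natDegree_add_C (p := R) (a := 1)
    rw [h2]
    exact hRdeg
  obtain ⟨P, hP1, hP2⟩ := exists_zero_aeval hK hG.tr hdeg
  -- `P` belongs to the set
  have hmem : P ∈ hfin.toFinset := by
    rw [Set.Finite.mem_toFinset]
    refine ⟨hP2, ?_⟩
    let τ : P.O := ⟨t, hP2⟩
    have hτ : ∀ p : k[X], ((aeval τ p : P.O) : K) = aeval t p := by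
      intro p
      have h1 : (aeval t : k[X] →ₐ[k] K) = (inclO P).comp (aeval τ) := by
        ext
        simp [τ]
      rw [h1]
      rfl
    have hz : ∀ p : k[X], aeval (resO P τ) p = 0 ↔ P.1 (aeval t p) < 1 := by
      intro p
      rw [aeval_algHom_apply, ← hτ, ← K661.Place.mem_maximalIdeal_iff, ← resO_ker, RingHom.mem_ker]
    have hint : IsIntegral k (resO P τ) := by
      refine IsAlgebraic.isIntegral ⟨R + 1, ?_, (hz _).2 hP1⟩
      intro h
      rw [h] at hdeg
      simp at hdeg
    refine ⟨minpoly k (resO P τ), PerfectField.separable_of_irreducible (minpoly.irreducible hint),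
      (hz _).1 (minpoly.aeval _ _)⟩
  have h3 : P.1 (aeval t R) < 1 := by
    rw [map_mul, map_mul, aeval_X, mul_comm]
    refine mul_lt_one_of_lt_of_le ?_ hP2
    rw [map_prod, map_prod, ← Finset.mul_prod_erase _ _ hmem]
    refine mul_lt_one_of_lt_of_le (hqP P hP2) ?_
    refine Finset.prod_le_one' fun P' _ => ?_
    exact val_aeval_le P hP2 _
  have h4 : P.1 (1 : K) < 1 := by
    have h5 : (1 : K) = aeval t (R + 1) - aeval t R := by simp
    rw [h5]
    exact (Valuation.map_sub _ _ _).trans_lt (max_lt hP1 h3)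
  rw [map_one] at h4
  exact lt_irrefl _ h4

theorem infinite_places (hK : IsFunctionField k K) {t : K} (hG : IsGen k K t) :
    {P : Place k K | P.1 t ≤ 1 ∧ ∃ g : k[X], g.Separable ∧ P.1 (aeval t g) < 1}.Infinite := by
  rcases finite_or_infinite k with h | h
  · exact infinite_places_of_perfect hK hG
  · exact infinite_places_of_infinite hK hG.tr

/-- Infinitely many places have a separable residue field. -/
theorem infinite_separable (hK : IsFunctionField k K) {t : K} (hG : IsGen k K t)
    (hsep : Algebra.IsSeparable (IntermediateField.adjoin k {t}) K) :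
    {P : Place k K | Algebra.IsSeparable k (IsLocalRing.ResidueField P.O)}.Infinite := by
  classical
  obtain ⟨s, hs1, hs2⟩ := K660.CrvFin.exists_gen hG
  choose H hH0 hH1 using fun e : K => K661.SepPlace.exists_poly (t := t) (hsep.isSeparable' e)
  -- the bad places
  have hbad : (⋃ e ∈ s, {P : Place k K |
      P.ord (eval₂ (aeval t : k[X] →ₐ[k] K).toRingHom e (derivative (H e))) ≠ 0}).Finite :=
    Set.Finite.biUnion s.finite_toSet fun e _ => Groth.Agent.S10970.result k K hK _
  refine ((infinite_places hK hG).sdiff hbad).mono ?_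
  rintro P ⟨⟨hPt, g, hg, hgP⟩, hP⟩
  simp only [Set.mem_iUnion, Set.mem_ofPred_eq, not_exists, not_not] at hP
  refine K661.SepPlace.isSeparable_residue P (resO P) (resO_surjective P) (resO_ker P) hG hPt s
    (fun e he => hs1 e he P hPt) hs2 H (fun e _ => hH0 e) (fun e he => ?_) g hg hgP
  rw [K661.Place.val_eq_exp P (hH1 e), hP e he]
  simp

end K661.SepInf
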