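import Groth.Agent.FunFld.K661.Galois
import Groth.Agent.FunFld.K661.GeomFF
import Groth.Agent.FunFld.K661.SepInf
import Mathlib.FieldTheory.Galois.Basic

/-!
# `K = k(x, y)`, `y² = f(x)`, `f` squarefree of positive degree, `2 ≠ 0`

Polynomial lemmas, degree two, the constants, the conjugation.
-/

set_option autoImplicit false
set_option linter.unusedSectionVars false
open WithZero Polynomial FunFld K660.Places

namespace K661.Hyp

section Poly

variable {k : Type*} [Field k]

/-- If `p² f = r q²` with `p, q` coprime and `f` squarefree then `q` is a unit. -/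
theorem isUnit_of_coprime {p q f r : k[X]} (hpq : IsCoprime p q) (hf : Squarefree f)
    (h : p ^ 2 * f = r * q ^ 2) : IsUnit q := by
  have h1 : q ^ 2 ∣ p ^ 2 * f := ⟨r, by rw [h]; ring⟩
  have h2 : q ^ 2 ∣ f := (hpq.symm.pow (m := 2) (n := 2)).dvd_of_dvd_mul_left h1
  rw [pow_two] at h2
  exact hf q h2

theorem natDegree_eq_zero_of_coprime {p q f : k[X]} {c : k} (hc : c ≠ 0) (hpq : IsCoprime p q)
    (hf : Squarefree f) (h : p ^ 2 * f = C c * q ^ 2) : f.natDegree = 0 := by
  have hq := isUnit_of_coprime hpq hf h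
  have h1 : IsUnit (C c * q ^ 2) := (isUnit_C.2 (isUnit_iff_ne_zero.2 hc)).mul (hq.pow 2)
  rw [← h] at h1
  exact natDegree_eq_zero_of_isUnit (isUnit_of_mul_isUnit_right h1)

variable {K : Type*} [Field K] [Algebra k K]

theorem aeval_ne_zero {t : K} (ht : Transcendental k t) {b : k[X]} (hb : b ≠ 0) :
    aeval t b ≠ 0 := fun h => ht ⟨b, hb, h⟩

theorem aeval_inj {t : K} (ht : Transcendental k t) {a b : k[X]} (h : aeval t a = aeval t b) :
    a = b := by
  rw [← sub_eq_zero, ← map_sub] at h
  by_contra hne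
  exact aeval_ne_zero ht (sub_ne_zero.2 hne) h

/-- Reduced fractions. -/
theorem exists_coprime {t : K} (ht : Transcendental k t) {a : K}
    (ha : a ∈ IntermediateField.adjoin k {t}) :
    ∃ p q : k[X], q ≠ 0 ∧ IsCoprime p q ∧ a * aeval t q = aeval t p := by
  classical
  obtain ⟨r, s, hrs⟩ := (IntermediateField.mem_adjoin_simple_iff k a).1 ha
  by_cases hs : s = 0
  · refine ⟨0, 1, one_ne_zero, isCoprime_zero_left.2 isUnit_one, ?_⟩
    rw [hrs, hs]
    simp
  · obtain ⟨g, r', s', u, v, hr', hs', huv⟩ : ∃ g r' s' u v : k[X], r = g * r' ∧ s = g * s' ∧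
        g = r * u + s * v := by
      obtain ⟨r', hr'⟩ := EuclideanDomain.gcd_dvd_left r s
      obtain ⟨s', hs'⟩ := EuclideanDomain.gcd_dvd_right r s
      exact ⟨_, r', s', _, _, hr', hs', EuclideanDomain.gcd_eq_gcd_ab r s⟩
    have hg : g ≠ 0 := by
      rintro rfl
      rw [zero_mul] at hs'
      exact hs hs'
    have hs'0 : s' ≠ 0 := by
      rintro rfl
      rw [mul_zero] at hs'
      exact hs hs'
    refine ⟨r', s', hs'0, ⟨u, v, ?_⟩, ?_⟩
    · apply mul_left_cancel₀ hg
      rw [mul_one]
      conv_rhs => rw [huv, hr', hs']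
      ring
    · have h3 : a * aeval t s = aeval t r := by
        rw [hrs, div_mul_cancel₀ _ (aeval_ne_zero ht hs)]
      rw [hr', hs', map_mul, map_mul] at h3
      apply mul_left_cancel₀ (aeval_ne_zero ht hg)
      rw [← h3]
      ring

end Poly

section Quad

variable {k K : Type*} [Field k] [Field K] [Algebra k K] {x y : K} {f : k[X]}

/-- The standing hypotheses. -/
structure Data (k : Type*) {K : Type*} [Field k] [Field K] [Algebra k K] (x y : K) (f : k[X]) :
    Prop where
  h2 : (2 : k) ≠ 0
  hx : Transcendental k x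
  gen : IntermediateField.adjoin k ({x, y} : Set K) = ⊤
  hf : Squarefree f
  hd : 1 ≤ f.natDegree
  heq : y ^ 2 = aeval x f

theorem two_ne_zero_of_ringChar (h2 : ringChar k ≠ 2) : (2 : k) ≠ 0 := Ring.two_ne_zero h2

namespace Data

variable (h : Data k x y f)

include h

theorem two_ne : (2 : K) ≠ 0 := by
  intro h0
  apply h.h2
  apply (algebraMap k K).injective
  rw [map_ofNat, map_zero]
  exact h0

theorem f_ne_zero : f ≠ 0 := h.hf.ne_zero

theorem y_ne_zero : y ≠ 0 := by
  intro hy
  have h1 := h.heq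
  rw [hy, zero_pow two_ne_zero] at h1
  exact aeval_ne_zero h.hx h.f_ne_zero h1.symm

/-- `c² f(x)` is never a constant for `c ∈ k(x)` nonzero. -/
theorem sq_mul_ne {c : K} (hc : c ∈ IntermediateField.adjoin k {x}) (hc0 : c ≠ 0) (d : k) :
    c ^ 2 * aeval x f ≠ algebraMap k K d := by
  intro heq
  obtain ⟨p, q, hq, hpq, hcq⟩ := exists_coprime h.hx hc
  have hd : d ≠ 0 := by
    rintro rfl
    rw [map_zero] at heq
    exact mul_ne_zero (pow_ne_zero _ hc0) (aeval_ne_zero h.hx h.f_ne_zero) heq
  have h1 : p ^ 2 * f = C d * q ^ 2 := by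
    apply aeval_inj h.hx
    rw [map_mul, map_mul, map_pow, map_pow, aeval_C, ← hcq, ← heq]
    ring
  have := natDegree_eq_zero_of_coprime hd hpq h.hf h1
  have := h.hd
  omega

theorem y_notMem : y ∉ IntermediateField.adjoin k {x} := by
  intro hy
  refine h.sq_mul_ne (inv_mem hy) (inv_ne_zero h.y_ne_zero) 1 ?_
  rw [← h.heq, ← mul_pow, inv_mul_cancel₀ h.y_ne_zero, one_pow, map_one]

/-- The function `f(x)` as an element of `k(x)`. -/
theorem f_mem : aeval x f ∈ IntermediateField.adjoin k {x} := by
  have h1 : x ∈ IntermediateField.adjoin k {x} := IntermediateField.mem_adjoin_simple_self k x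
  have h2 : aeval x f = algebraMap (IntermediateField.adjoin k {x}) K
      (aeval (⟨x, h1⟩ : IntermediateField.adjoin k {x}) f) := by
    rw [← aeval_algebraMap_apply]
    rfl
  rw [h2]
  exact (aeval (⟨x, h1⟩ : IntermediateField.adjoin k {x}) f).2

theorem adjoin_y : IntermediateField.adjoin (IntermediateField.adjoin k {x}) {y} = ⊤ := by
  have h1 := IntermediateField.adjoin_adjoin_left k {x} {y} (E := K)
  rw [Set.singleton_union, h.gen] at h1
  rw [← IntermediateField.restrictScalars_eq_top_iff (K := k)]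
  exact h1

theorem isIntegral_y : IsIntegral (IntermediateField.adjoin k {x}) y := by
  refine ⟨X ^ 2 - C (⟨aeval x f, h.f_mem⟩ : IntermediateField.adjoin k {x}),
    monic_X_pow_sub_C _ two_ne_zero, ?_⟩
  rw [eval₂_sub, eval₂_pow, eval₂_X, eval₂_C, h.heq]
  exact sub_self _

theorem finiteDimensional : FiniteDimensional (IntermediateField.adjoin k {x}) K := by
  have h1 := IntermediateField.adjoin.finiteDimensional h.isIntegral_y
  rw [h.adjoin_y] at h1
  exact Module.Finite.equiv IntermediateField.topEquiv.toLinearEquiv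

theorem isGen : IsGen k K x := ⟨h.hx, h.finiteDimensional⟩

theorem natDegree_minpoly : (minpoly (IntermediateField.adjoin k {x}) y).natDegree = 2 := by
  apply le_antisymm
  · have h1 : minpoly (IntermediateField.adjoin k {x}) y ∣
        X ^ 2 - C (⟨aeval x f, h.f_mem⟩ : IntermediateField.adjoin k {x}) := by
      apply minpoly.dvd
      rw [map_sub, map_pow, aeval_X, aeval_C, h.heq]
      exact sub_self _
    have h2 := natDegree_le_of_dvd h1 (monic_X_pow_sub_C _ two_ne_zero).ne_zero
    rwa [natDegree_X_pow_sub_C] at h2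
  · rw [minpoly.two_le_natDegree_iff h.isIntegral_y]
    rintro ⟨⟨z, hz⟩, hzy⟩
    apply h.y_notMem
    rw [← hzy]
    exact hz

theorem finrank_eq : Module.finrank (IntermediateField.adjoin k {x}) K = 2 := by
  rw [← h.natDegree_minpoly, ← IntermediateField.adjoin.finrank h.isIntegral_y, h.adjoin_y,
    IntermediateField.finrank_top']

/-- Decomposition `z = a + b y`. -/
theorem exists_decomp (z : K) : ∃ a b : K, a ∈ IntermediateField.adjoin k {x} ∧
    b ∈ IntermediateField.adjoin k {x} ∧ z = a + b * y := by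
  let F₀ := IntermediateField.adjoin k {x}
  have h1 : z ∈ IntermediateField.adjoin F₀ {y} := by
    rw [h.adjoin_y]
    exact IntermediateField.mem_top
  have h2 : z ∈ (IntermediateField.adjoin F₀ {y}).toSubalgebra := h1
  rw [IntermediateField.adjoin_simple_toSubalgebra_of_isAlgebraic h.isIntegral_y.isAlgebraic] at h2
  obtain ⟨p, rfl⟩ := (Algebra.adjoin_singleton_eq_range_aeval F₀ y ▸ h2 : z ∈ (aeval y).range)
  let m : F₀[X] := X ^ 2 - C (⟨aeval x f, h.f_mem⟩ : F₀)
  have hm : m.Monic := monic_X_pow_sub_C _ two_ne_zero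
  have hmy : aeval y m = 0 := by
    rw [map_sub, map_pow, aeval_X, aeval_C, h.heq]
    exact sub_self _
  have hdeg : (p %ₘ m).natDegree ≤ 1 := by
    have h4 : m.natDegree = 2 := natDegree_X_pow_sub_C
    have h5 := natDegree_modByMonic_lt p hm (by
      intro h1
      rw [h1] at h4
      simp at h4)
    omega
  obtain ⟨b, a, hab⟩ := exists_eq_X_add_C_of_natDegree_le_one hdeg
  refine ⟨a, b, a.2, b.2, ?_⟩
  have h3 := congrArg (aeval y) (modByMonic_add_div p m)
  rw [map_add, map_mul, hmy, zero_mul, add_zero] at h3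
  change aeval y p = _
  rw [← h3, hab]
  simp [add_comm]

theorem isSeparable : Algebra.IsSeparable (IntermediateField.adjoin k {x}) K := by
  have h1 : IsSeparable (IntermediateField.adjoin k {x}) y := by
    refine K661.SepPlace.isSeparable_of_root
      (G := X ^ 2 - C (⟨aeval x f, h.f_mem⟩ : IntermediateField.adjoin k {x})) ?_ ?_
    · rw [map_sub, map_pow, aeval_X, aeval_C, h.heq]
      exact sub_self _
    · simp only [derivative_sub, derivative_X_pow, derivative_C, sub_zero, map_mul, aeval_C,
        map_pow, aeval_X]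
      have h3 : algebraMap (IntermediateField.adjoin k {x}) K ((2 : ℕ) : _) = (2 : K) := by
        rw [map_natCast]
        norm_num
      rw [h3]
      exact mul_ne_zero h.two_ne (pow_ne_zero _ h.y_ne_zero)
  have h2 := (IntermediateField.isSeparable_adjoin_simple_iff_isSeparable _ _).2 h1
  rw [h.adjoin_y] at h2
  exact Algebra.IsSeparable.of_algHom (IntermediateField.adjoin k {x})
    (⊤ : IntermediateField (IntermediateField.adjoin k {x}) K)
    IntermediateField.topEquiv.symm.toAlgHom

theorem isGalois : IsGalois (IntermediateField.adjoin k {x}) K := by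
  have := h.isSeparable
  have : Algebra.IsQuadraticExtension (IntermediateField.adjoin k {x}) K := ⟨h.finrank_eq⟩
  infer_instance

/-- The conjugation. -/
theorem exists_conj : ∃ σ : K ≃ₐ[IntermediateField.adjoin k {x}] K, σ y = -y := by
  have := h.isGalois
  have := h.finiteDimensional
  have h1 : Nat.card (K ≃ₐ[IntermediateField.adjoin k {x}] K) = 2 := by
    rw [IsGalois.card_aut_eq_finrank, h.finrank_eq]
  have h2 : Nontrivial (K ≃ₐ[IntermediateField.adjoin k {x}] K) := by
    rw [← Finite.one_lt_card_iff_nontrivial, h1]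
    norm_num
  obtain ⟨σ, hσ⟩ := exists_ne (1 : K ≃ₐ[IntermediateField.adjoin k {x}] K)
  refine ⟨σ, ?_⟩
  have hfix : ∀ a ∈ IntermediateField.adjoin k {x}, σ a = a := fun a ha => σ.commutes ⟨a, ha⟩
  have h3 : σ y ^ 2 = y ^ 2 := by
    rw [← map_pow, h.heq, hfix _ h.f_mem]
  rcases sq_eq_sq_iff_eq_or_eq_neg.1 h3 with h4 | h4
  · exfalso
    apply hσ
    ext z
    obtain ⟨a, b, ha, hb, rfl⟩ := h.exists_decomp z
    rw [map_add, map_mul, hfix a ha, hfix b hb, h4]
    rfl
  · exact h4

end Data

end Quad

section Const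

variable {k K : Type*} [Field k] [Field K] [Algebra k K]

/-- Elements of `k(x)` algebraic over `k` are constants. -/
theorem mem_range_of_mem_adjoin {x a : K} (hx : Transcendental k x)
    (ha : a ∈ IntermediateField.adjoin k {x}) (halg : IsAlgebraic k a) :
    a ∈ Set.range (algebraMap k K) := by
  by_contra hcon
  obtain ⟨p, q, hq, -, hpq⟩ := exists_coprime hx ha
  let L := algebraicClosure k K
  have haL : a ∈ L := mem_algebraicClosure_iff.2 halg
  let G : L[X] := C (⟨a, haL⟩ : L) * q.map (algebraMap k L) - p.map (algebraMap k L)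
  have hG : aeval x G = 0 := by
    rw [map_sub, map_mul, aeval_C, aeval_map_algebraMap, aeval_map_algebraMap, ← hpq]
    exact sub_self _
  have hG0 : G ≠ 0 := by
    intro h0
    have h1 : ∀ i, a * algebraMap k K (q.coeff i) = algebraMap k K (p.coeff i) := by
      intro i
      have h2 := congrArg (fun r : L[X] => algebraMap L K (r.coeff i)) h0
      simp only [G, coeff_sub, coeff_C_mul, coeff_map, map_sub, map_mul, coeff_zero, map_zero] at h2
      rw [sub_eq_zero] at h2
      exact h2
    have h3 := h1 q.natDegree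
    have h4 : algebraMap k K (q.coeff q.natDegree) ≠ 0 := by
      rw [coeff_natDegree]
      simpa using hq
    apply hcon
    refine ⟨p.coeff q.natDegree / q.coeff q.natDegree, ?_⟩
    rw [map_div₀, ← h3, mul_div_cancel_right₀ _ h4]
  have h5 : IsAlgebraic L x := ⟨G, hG0, hG⟩
  exact hx (IsAlgebraic.restrictScalars k h5)

end Const

namespace Data

variable {k K : Type*} [Field k] [Field K] [Algebra k K] {x y : K} {f : k[X]} (h : Data k x y f)

include h

/-- The constant field is `k`. -/
theorem mem_range_of_isAlgebraic {z : K} (hz : IsAlgebraic k z) :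
    z ∈ Set.range (algebraMap k K) := by
  obtain ⟨σ, hσ⟩ := h.exists_conj
  have hfix : ∀ a ∈ IntermediateField.adjoin k {x}, σ a = a := fun a ha => σ.commutes ⟨a, ha⟩
  obtain ⟨a, b, ha, hb, rfl⟩ := h.exists_decomp z
  have h1 : σ (a + b * y) = a - b * y := by
    rw [map_add, map_mul, hσ, hfix a ha, hfix b hb]
    ring
  have h2 : IsAlgebraic k (a - b * y) := by
    rw [← h1]
    exact hz.algHom (σ.restrictScalars k).toAlgHom
  have h2a : IsAlgebraic k (2 : K) := by
    have h0 := isAlgebraic_algebraMap (R := k) (A := K) (2 : k)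
    rwa [map_ofNat] at h0
  have h3 : IsAlgebraic k (b * y) := by
    have h4 : b * y = ((a + b * y) - (a - b * y)) * (2 : K)⁻¹ := by
      have := h.two_ne
      field_simp
      ring
    rw [h4]
    exact (hz.sub h2).mul h2a.inv
  have hb0 : b = 0 := by
    by_contra hb0
    have h5 : IsAlgebraic k (b ^ 2 * aeval x f) := by
      rw [← h.heq, ← mul_pow]
      exact h3.pow 2
    obtain ⟨d, hd⟩ := mem_range_of_mem_adjoin h.hx (mul_mem (pow_mem hb 2) h.f_mem) h5
    exact h.sq_mul_ne hb hb0 d hd.symm
  rw [hb0, zero_mul, add_zero] at hz ⊢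
  exact mem_range_of_mem_adjoin h.hx ha hz

theorem isFunctionField : IsFunctionField k K :=
  ⟨⟨x, h.hx, h.finiteDimensional⟩, fun _ hz => h.mem_range_of_isAlgebraic hz⟩

end Data

end K661.Hyp
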