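import Groth.Agent.FunFld.K661.HypGenus
import Groth.Agent.FunFld.K662.ASGenus
import Groth.Agent.FunFld.K666.QuadPl
import Groth.Agent.FunFld.K666.Hyper
import Groth.Agent.FunFld.K666.RatPl
import Groth.Agent.FunFld.K667.DiffOrd
import Groth.Agent.FunFld.K667.ResField

/-!
# The differential `dx/y` on `y² = f(x)`

Its order at the places with expansions; the regular differentials.
-/

set_option autoImplicit false
set_option linter.unusedSectionVars false
open WithZero Polynomial FunFld K660.Places LaurentSeries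

universe u v w

namespace K661.HypDiff

section Basic

variable {k : Type u} {K : Type v} {F : Type w} [Field k] [Field K] [Field F] [Algebra k K]
  [Algebra k F]

/-- Values at `P` of a separable polynomial near a root. -/
theorem val_derivative [FiniteDimensional k F] [Algebra.IsSeparable k F] (P : Place k K)
    {φ : K →ₐ[k] F⸨X⸩} (hφ : LocRes.IsExpansionAt P.1 φ) {x : K} (hx : P.1 x ≤ 1) {π : k[X]}
    (hπ : Irreducible π) (hP : P.1 (aeval x π) < 1) : P.1 (aeval x (derivative π)) = 1 := by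
  have key : ∀ g : k[X], K667.ResField.cst P φ hφ (aeval (⟨x, hx⟩ : P.O) g) =
      aeval (K667.ResField.cst P φ hφ ⟨x, hx⟩) g := fun g => (aeval_algHom_apply _ _ _).symm
  have hcoe : ∀ g : k[X], ((aeval (⟨x, hx⟩ : P.O) g : P.O) : K) = aeval x g := by
    intro g
    have : IsScalarTower k P.O K := IsScalarTower.of_algebraMap_eq fun _ => rfl
    have h1 := aeval_algebraMap_apply K (⟨x, hx⟩ : P.O) g
    exact h1.symm
  have h1 : aeval (K667.ResField.cst P φ hφ ⟨x, hx⟩) π = 0 := by
    rw [← key, K667.ResField.cst_eq_zero_iff, hcoe]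
    exact hP
  have h2 := Algebra.IsSeparable.isSeparable k (K667.ResField.cst P φ hφ ⟨x, hx⟩)
  have h3 : π.Separable := by
    refine Polynomial.Separable.of_dvd h2 ?_
    rw [← minpoly.eq_of_irreducible hπ h1]
    exact Dvd.intro _ rfl
  have h4 : aeval (K667.ResField.cst P φ hφ ⟨x, hx⟩) (derivative π) ≠ 0 :=
    h3.aeval_derivative_ne_zero h1
  rw [← key, Ne, K667.ResField.cst_eq_zero_iff, hcoe, not_lt] at h4
  exact le_antisymm (val_aeval_le P hx _) h4

theorem vDiff_aeval (P : Place k K) {φ : K →ₐ[k] F⸨X⸩} (hφ : LocRes.IsExpansionAt P.1 φ) (x : K)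
    (g : k[X]) : LocRes.vDiff φ 1 (aeval x g) =
      P.1 (aeval x (derivative g)) * LocRes.vDiff φ 1 x := by
  rw [← hφ.1, ← K667.DiffOrd.vDiff_eq_mul_one]
  apply K667.DiffOrd.vDiff_congr
  rw [one_smul, Derivation.map_aeval]

theorem vDiff_one_of_val (P : Place k K) {φ : K →ₐ[k] F⸨X⸩} (hφ : LocRes.IsExpansionAt P.1 φ) {x : K}
    {n : ℤ} (hx : P.1 x = exp n) (hn : (n : F) ≠ 0) : LocRes.vDiff φ 1 x = exp (n + 1) := by
  rw [LocRes.vDiff, map_one, one_mul]
  exact K667.DiffOrd.v_D_eq (by rw [hφ.1, hx]) hn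

end Basic

section Rat

variable {k : Type u} {K : Type v} [Field k] [Field K] [Algebra k K] [Algebra (RatFunc k) K]
  [IsScalarTower k (RatFunc k) K]

theorem aeval_X (g : k[X]) : aeval (algebraMap (RatFunc k) K RatFunc.X) g =
    algebraMap (RatFunc k) K (algebraMap k[X] (RatFunc k) g) := by
  rw [aeval_algebraMap_apply, RatFunc.aeval_X_left_eq_algebraMap]

theorem transcendental_X : Transcendental k (algebraMap (RatFunc k) K RatFunc.X) :=
  (transcendental_algebraMap_iff (algebraMap (RatFunc k) K).injective).2 RatFunc.transcendental_X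

theorem mem_adjoin_X (r : RatFunc k) :
    algebraMap (RatFunc k) K r ∈ IntermediateField.adjoin k {algebraMap (RatFunc k) K RatFunc.X} := by
  have h1 : r ∈ IntermediateField.adjoin k {(RatFunc.X : RatFunc k)} := by
    rw [RatFunc.adjoin_X]
    exact IntermediateField.mem_top
  have h2 := IntermediateField.adjoin_map k {(RatFunc.X : RatFunc k)}
    (IsScalarTower.toAlgHom k (RatFunc k) K)
  rw [Set.image_singleton] at h2
  change _ ∈ IntermediateField.adjoin k {(IsScalarTower.toAlgHom k (RatFunc k) K) RatFunc.X}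
  rw [← h2]
  exact ⟨r, h1, rfl⟩

theorem mem_range_of_mem_adjoin {z : K}
    (hz : z ∈ IntermediateField.adjoin k {algebraMap (RatFunc k) K RatFunc.X}) :
    z ∈ Set.range (algebraMap (RatFunc k) K) := by
  have h2 := IntermediateField.adjoin_map k {(RatFunc.X : RatFunc k)}
    (IsScalarTower.toAlgHom k (RatFunc k) K)
  rw [Set.image_singleton] at h2
  change _ ∈ IntermediateField.adjoin k {(IsScalarTower.toAlgHom k (RatFunc k) K) RatFunc.X} at hz
  rw [← h2] at hz
  obtain ⟨r, -, hr⟩ := hz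
  exact ⟨r, hr⟩

theorem adjoin_eq_top (hdeg : Module.finrank (RatFunc k) K = 2) {y : K}
    (hy : y ∉ Set.range (algebraMap (RatFunc k) K)) :
    IntermediateField.adjoin k ({algebraMap (RatFunc k) K RatFunc.X, y} : Set K) = ⊤ := by
  rw [eq_top_iff]
  intro z _
  obtain ⟨a, b, rfl⟩ := K662.ASGenus.exists_comb hdeg hy z
  have h1 : IntermediateField.adjoin k {algebraMap (RatFunc k) K RatFunc.X} ≤
      IntermediateField.adjoin k ({algebraMap (RatFunc k) K RatFunc.X, y} : Set K) :=
    IntermediateField.adjoin.mono _ _ _ (by simp)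
  refine add_mem (h1 (mem_adjoin_X a)) (mul_mem (h1 (mem_adjoin_X b)) ?_)
  exact IntermediateField.subset_adjoin _ _ (by simp)

theorem mkData (hdeg : Module.finrank (RatFunc k) K = 2) (h2 : ringChar k ≠ 2)
    {y : K} {f : k[X]} (hf : Squarefree f) (hd : 1 ≤ f.natDegree)
    (heq : y ^ 2 = algebraMap (RatFunc k) K (algebraMap k[X] (RatFunc k) f)) :
    K661.Hyp.Data k (algebraMap (RatFunc k) K RatFunc.X) y f where
  h2 := K661.Hyp.two_ne_zero_of_ringChar h2
  hx := transcendental_X
  gen := adjoin_eq_top hdeg (K666.Hyper.not_mem_range y f hf hd heq)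
  hf := hf
  hd := hd
  heq := by rw [heq, aeval_X]

end Rat

section Order

variable {k : Type u} {K : Type v} {F : Type w} [Field k] [Field K] [Field F] [Algebra k K]
  [Algebra k F] [FiniteDimensional k F] [Algebra (RatFunc k) K]
  [IsScalarTower k (RatFunc k) K] (hdeg : Module.finrank (RatFunc k) K = 2) {y : K} {f : k[X]}
  (h : K661.Hyp.Data k (algebraMap (RatFunc k) K RatFunc.X) y f)

include h

theorem finrank_omega : Module.finrank K (Ω[K⁄k]) = 1 :=
  K660.Sep.finrank_kaehler h.isGen h.isSeparable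

include hdeg

/-- The conjugation over `RatFunc k`. -/
theorem exists_conj : ∃ σ : K ≃ₐ[RatFunc k] K, σ y = -y := by
  have hy : y ∉ Set.range (algebraMap (RatFunc k) K) := by
    rintro ⟨r, rfl⟩
    exact h.y_notMem (mem_adjoin_X r)
  have h2 : (2 : RatFunc k) ≠ 0 := by
    have := (algebraMap k (RatFunc k)).injective.ne h.h2
    rwa [map_ofNat, map_zero] at this
  have := K666.QuadPl.isSeparable_of_two_ne_zero hdeg h2
  obtain ⟨σ, hσ⟩ := K666.QuadPl.exists_aut hdeg y hy
  refine ⟨σ, ?_⟩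
  have h3 : σ y ^ 2 = y ^ 2 := by
    rw [← map_pow, h.heq, aeval_X, AlgEquiv.commutes]
  rcases sq_eq_sq_iff_eq_or_eq_neg.1 h3 with h4 | h4
  · exact absurd h4 hσ
  · exact h4

variable (P : Place k K) {φ : K →ₐ[k] F⸨X⸩} (hφ : LocRes.IsExpansionAt P.1 φ)

include hφ

/-- Order of `dx/y` at the finite places. -/
theorem vDiff_finite (hx : P.1 (algebraMap (RatFunc k) K RatFunc.X) ≤ 1) :
    LocRes.vDiff φ y⁻¹ (algebraMap (RatFunc k) K RatFunc.X) = 1 := by
  have : FiniteDimensional (RatFunc k) K := Module.finite_of_finrank_eq_succ hdeg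
  have hsep : Algebra.IsSeparable k F := K667.ResField.isSeparable_coeff (finrank_omega h) hφ
  obtain ⟨P₀, hP₀⟩ := K661.Place.exists_below (K := RatFunc k) P
  have hx₀ : P₀.1 RatFunc.X ≤ 1 := (K661.Place.val_algebraMap_le_one_iff hP₀ _).1 hx
  obtain ⟨π, hπ, hπ1, hπ2⟩ := K666.RatPl.fin_exists P₀ hx₀
  have hval : ∀ g : k[X], P.1 (aeval (algebraMap (RatFunc k) K RatFunc.X) g) =
      P₀.1 (algebraMap k[X] (RatFunc k) g) ^ ramIdx P P₀ := fun g => by
    rw [aeval_X, K661.Place.val_algebraMap hP₀]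
  have hpos := K661.Place.ramIdx_pos hP₀
  have hle : ramIdx P P₀ ≤ 2 := by
    have := K666.Ext.ramIdx_le K666.RatPl.isFunctionField P₀ P hP₀
    rwa [hdeg] at this
  have hπP : P.1 (aeval (algebraMap (RatFunc k) K RatFunc.X) π) = exp (-(ramIdx P P₀ : ℤ)) := by
    rw [hval, hπ1, ← exp_nsmul]
    simp
  have hπlt : P.1 (aeval (algebraMap (RatFunc k) K RatFunc.X) π) < 1 := by
    rw [hπP, ← exp_zero, exp_lt_exp]
    omega
  have hπ' := val_derivative P hφ hx hπ hπlt
  have h2P : P.1 (2 : K) = 1 := by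
    have := K661.Place.val_const P h.h2
    rwa [map_ofNat] at this
  have hy1 : P.1 y ≤ 1 := by
    have h1 : P.1 y ^ 2 ≤ 1 := by
      rw [← map_pow, h.heq]
      exact val_aeval_le P hx f
    exact (pow_le_one_iff two_ne_zero).1 h1
  rw [K667.DiffOrd.vDiff_eq_mul_one, hφ.1, map_inv₀]
  rcases hy1.lt_or_eq with hy | hy
  · -- ramified
    have hfP : P.1 (aeval (algebraMap (RatFunc k) K RatFunc.X) f) < 1 := by
      rw [← h.heq, map_pow]
      exact pow_lt_one₀ zero_le hy two_ne_zero
    have hdvd : π ∣ f := by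
      by_contra hcon
      rw [hval, hπ2 f hcon, one_pow] at hfP
      exact lt_irrefl _ hfP
    obtain ⟨g, rfl⟩ := hdvd
    have hg : ¬ π ∣ g := by
      rintro ⟨g', rfl⟩
      exact hπ.not_isUnit (h.hf π ⟨g', by ring⟩)
    have hgP : P.1 (aeval (algebraMap (RatFunc k) K RatFunc.X) g) = 1 := by
      rw [hval, hπ2 g hg, one_pow]
    have hyP : P.1 y = exp (-1) := by
      have h1 : P.1 y ^ 2 = exp (-(ramIdx P P₀ : ℤ)) := by
        rw [← map_pow, h.heq, map_mul, map_mul, hgP, mul_one, hπP]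
      rw [K661.Place.val_eq_exp P h.y_ne_zero] at h1 hy ⊢
      rw [← exp_nsmul] at h1
      have h3 := exp_injective h1
      rw [← exp_zero, exp_lt_exp] at hy
      congr 1
      simp only [nsmul_eq_mul] at h3
      push_cast at h3
      omega
    have hf' : P.1 (aeval (algebraMap (RatFunc k) K RatFunc.X) (derivative (π * g))) = 1 := by
      rw [derivative_mul, map_add, map_mul, map_mul]
      have h1 : P.1 (aeval (algebraMap (RatFunc k) K RatFunc.X) (derivative π) *
          aeval (algebraMap (RatFunc k) K RatFunc.X) g) = 1 := by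
        rw [map_mul, hπ', hgP, one_mul]
      have h3 : P.1 (aeval (algebraMap (RatFunc k) K RatFunc.X) π *
          aeval (algebraMap (RatFunc k) K RatFunc.X) (derivative g)) < 1 := by
        rw [map_mul]
        exact (mul_le_mul' le_rfl (val_aeval_le P hx _)).trans_lt (by rwa [mul_one])
      rw [Valuation.map_add_eq_of_lt_left _ (by rwa [h1]), h1]
    have h4 : LocRes.vDiff φ 1 (y ^ 2) = P.1 y := by
      have h5 : LocRes.vDiff φ 1 (y ^ 2) = LocRes.vDiff φ (2 * y) y := by
        apply K667.DiffOrd.vDiff_congr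
        rw [one_smul, Derivation.leibniz_pow, mul_smul, Nat.add_one_sub_one, pow_one]
        exact (ofNat_smul_eq_nsmul K 2 _).symm
      rw [h5, K667.DiffOrd.vDiff_eq_mul_one, K667.DiffOrd.vDiff_uniformizer hφ hyP, mul_one, hφ.1,
        map_mul, h2P, one_mul]
    rw [h.heq, vDiff_aeval P hφ, hf', one_mul] at h4
    rw [h4]
    exact inv_mul_cancel₀ (K661.Place.val_ne_zero P h.y_ne_zero)
  · obtain ⟨σ, hσ⟩ := exists_conj hdeg h
    have he : ramIdx P P₀ = 1 := by
      refine K666.QuadPl.ramIdx_eq_one K666.RatPl.isFunctionField hdeg P P₀ hP₀ σ y hy.le ?_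
      rw [hσ, show -y - y = -(2 * y) by ring, Valuation.map_neg, map_mul, h2P, hy, one_mul]
    rw [he] at hπP
    have h1 := K667.DiffOrd.vDiff_uniformizer hφ hπP
    rw [vDiff_aeval P hφ, hπ', one_mul] at h1
    rw [h1, hy, inv_one, one_mul]

/-- Order of `dx/y` at the infinite places. -/
theorem vDiff_infinite (hx : 1 < P.1 (algebraMap (RatFunc k) K RatFunc.X)) :
    LocRes.vDiff φ y⁻¹ (algebraMap (RatFunc k) K RatFunc.X) *
      P.1 (algebraMap (RatFunc k) K RatFunc.X) ^ ((f.natDegree - 1) / 2) =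
      P.1 (algebraMap (RatFunc k) K RatFunc.X) := by
  have : FiniteDimensional (RatFunc k) K := Module.finite_of_finrank_eq_succ hdeg
  obtain ⟨P₀, hP₀⟩ := K661.Place.exists_below (K := RatFunc k) P
  have hx₀ : 1 < P₀.1 RatFunc.X := by
    by_contra hcon
    exact absurd ((K661.Place.val_algebraMap_le_one_iff hP₀ _).2 (not_lt.1 hcon)) (not_le.2 hx)
  have hxP : P.1 (algebraMap (RatFunc k) K RatFunc.X) = exp (ramIdx P P₀ : ℤ) := by
    rw [K661.Place.val_algebraMap hP₀, K666.RatPl.inf_val_X P₀ hx₀, ← exp_nsmul]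
    simp
  have hpos := K661.Place.ramIdx_pos hP₀
  have hle : ramIdx P P₀ ≤ 2 := by
    have := K666.Ext.ramIdx_le K666.RatPl.isFunctionField P₀ P hP₀
    rwa [hdeg] at this
  have h2P : P.1 (2 : K) = 1 := by
    have := K661.Place.val_const P h.h2
    rwa [map_ofNat] at this
  have h2F : (2 : F) ≠ 0 := by
    have := (algebraMap k F).injective.ne h.h2
    rwa [map_ofNat, map_zero] at this
  have hyP : P.1 y ^ 2 = P.1 (algebraMap (RatFunc k) K RatFunc.X) ^ f.natDegree := by
    rw [← map_pow, h.heq, K660.CrvFin.val_aeval (not_le.2 hx) h.f_ne_zero]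
  have hlog : -(2 * P.ord y) = f.natDegree * (ramIdx P P₀ : ℤ) := by
    rw [K661.Place.val_eq_exp P h.y_ne_zero, hxP, ← exp_nsmul, ← exp_nsmul] at hyP
    have h3 := exp_injective hyP
    simp only [nsmul_eq_mul] at h3
    push_cast at h3
    linarith
  have hd := h.hd
  rw [K667.DiffOrd.vDiff_eq_mul_one, hφ.1, map_inv₀]
  rcases Nat.even_or_odd f.natDegree with hev | hodd
  · obtain ⟨m, hm⟩ := hev
    have hyx : P.1 (y / algebraMap (RatFunc k) K RatFunc.X ^ m) = 1 := by
      rw [map_div₀, map_pow, hxP, K661.Place.val_eq_exp P h.y_ne_zero, ← exp_nsmul, ← exp_sub]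
      rw [← exp_zero (M := ℤ)]
      congr 1
      rw [hm] at hlog
      simp only [nsmul_eq_mul]
      push_cast at hlog ⊢
      linarith
    obtain ⟨σ, hσ⟩ := exists_conj hdeg h
    have he : ramIdx P P₀ = 1 := by
      refine K666.QuadPl.ramIdx_eq_one K666.RatPl.isFunctionField hdeg P P₀ hP₀ σ
        (y / algebraMap (RatFunc k) K RatFunc.X ^ m) hyx.le ?_
      rw [map_div₀, hσ, map_pow, AlgEquiv.commutes,
        show -y / algebraMap (RatFunc k) K RatFunc.X ^ m - y / algebraMap (RatFunc k) K RatFunc.X ^ m =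
          -(2 * (y / algebraMap (RatFunc k) K RatFunc.X ^ m)) by ring, Valuation.map_neg, map_mul,
        h2P, hyx, one_mul]
    rw [he] at hxP hlog
    rw [vDiff_one_of_val P hφ hxP (by simp), K661.Place.val_eq_exp P h.y_ne_zero, hxP, ← exp_neg,
      ← exp_nsmul, ← exp_add, ← exp_add]
    congr 1
    have h3 : (f.natDegree - 1) / 2 = m - 1 := by omega
    have h5 : ((m - 1 : ℕ) : ℤ) = (m : ℤ) - 1 := by
      rw [Nat.cast_sub (by omega)]; simp
    rw [h3]
    rw [hm] at hlog
    simp only [nsmul_eq_mul]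
    rw [h5]
    push_cast at hlog ⊢
    linarith
  · obtain ⟨m, hm⟩ := hodd
    have he : ramIdx P P₀ = 2 := by
      rw [hm] at hlog
      by_contra hcon
      have h3 : ramIdx P P₀ = 1 := by omega
      rw [h3] at hlog
      push_cast at hlog
      omega
    rw [he] at hxP hlog
    rw [vDiff_one_of_val P hφ hxP (by simpa using h2F), K661.Place.val_eq_exp P h.y_ne_zero, hxP,
      ← exp_neg, ← exp_nsmul, ← exp_add, ← exp_add]
    congr 1
    have h3 : (f.natDegree - 1) / 2 = m := by omega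
    rw [h3]
    rw [hm] at hlog
    simp only [nsmul_eq_mul]
    push_cast at hlog ⊢
    linarith

end Order

section Main

variable {k : Type u} {K : Type v} [Field k] [Field K] [Algebra k K] [Algebra (RatFunc k) K]
  [IsScalarTower k (RatFunc k) K] (hdeg : Module.finrank (RatFunc k) K = 2) {y : K} {f : k[X]}
  (h : K661.Hyp.Data k (algebraMap (RatFunc k) K RatFunc.X) y f)
  (F : Place k K → Type w) [∀ P, Field (F P)] [∀ P, Algebra k (F P)] [∀ P, FiniteDimensional k (F P)]
  (φ : ∀ P, K →ₐ[k] LaurentSeries (F P)) (hφ : ∀ P, LocRes.IsExpansionAt P.1 (φ P))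

include hdeg h hφ

theorem regular (i : ℕ) (hi : i < genus k K) (P : Place k K) :
    LocRes.vDiff (φ P) (algebraMap (RatFunc k) K RatFunc.X ^ i / y)
      (algebraMap (RatFunc k) K RatFunc.X) ≤ 1 := by
  rw [h.genus_eq] at hi
  rw [div_eq_mul_inv, K667.DiffOrd.vDiff_mul, (hφ P).1, map_pow]
  rcases le_or_gt (P.1 (algebraMap (RatFunc k) K RatFunc.X)) 1 with hx | hx
  · rw [vDiff_finite hdeg h P (hφ P) hx, mul_one]
    exact pow_le_one' hx i
  · have h1 := vDiff_infinite hdeg h P (hφ P) hx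
    have hx0 : P.1 (algebraMap (RatFunc k) K RatFunc.X) ≠ 0 := (zero_lt_one.trans hx).ne'
    rw [eq_div_of_mul_eq (pow_ne_zero _ hx0) h1, ← mul_div_assoc, ← pow_succ]
    exact div_le_one_of_le₀ (pow_le_pow_right₀ hx.le hi) zero_le

theorem exists_of_regular (z : K)
    (hz : ∀ P, LocRes.vDiff (φ P) z (algebraMap (RatFunc k) K RatFunc.X) ≤ 1) :
    ∃ a : k[X], a.degree < (genus k K : WithBot ℕ) ∧
      z = algebraMap (RatFunc k) K (algebraMap k[X] (RatFunc k) a) / y := by
  have hy := h.y_ne_zero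
  have hd := h.hd
  have hfin : ∀ P : Place k K, P.1 (algebraMap (RatFunc k) K RatFunc.X) ≤ 1 → P.1 (z * y) ≤ 1 := by
    intro P hP
    have h1 := hz P
    rw [show z = (z * y) * y⁻¹ by rw [mul_inv_cancel_right₀ hy], K667.DiffOrd.vDiff_mul, (hφ P).1,
      vDiff_finite hdeg h P (hφ P) hP, mul_one] at h1
    exact h1
  have hinf : ∀ P : Place k K, 1 < P.1 (algebraMap (RatFunc k) K RatFunc.X) →
      P.1 (z * y) * P.1 (algebraMap (RatFunc k) K RatFunc.X) ≤
        P.1 (algebraMap (RatFunc k) K RatFunc.X) ^ ((f.natDegree - 1) / 2) := by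
    intro P hP
    have h1 := hz P
    rw [show z = (z * y) * y⁻¹ by rw [mul_inv_cancel_right₀ hy], K667.DiffOrd.vDiff_mul,
      (hφ P).1] at h1
    conv_lhs => rw [← vDiff_infinite hdeg h P (hφ P) hP, ← mul_assoc]
    exact (mul_le_mul' h1 le_rfl).trans (by rw [one_mul])
  have hb : K661.Hyp.Bdd k (algebraMap (RatFunc k) K RatFunc.X) ((f.natDegree - 1) / 2 - 1)
      (z * y) := by
    intro P
    rcases le_or_gt (P.1 (algebraMap (RatFunc k) K RatFunc.X)) 1 with hx | hx
    · rw [max_eq_right hx, one_pow]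
      exact hfin P hx
    · rw [max_eq_left hx.le]
      have h1 := hinf P hx
      have hx0 : P.1 (algebraMap (RatFunc k) K RatFunc.X) ≠ 0 := (zero_lt_one.trans hx).ne'
      rcases Nat.eq_zero_or_pos ((f.natDegree - 1) / 2) with h0 | h0
      · rw [h0, pow_zero] at h1 ⊢
        refine le_trans ?_ h1
        conv_lhs => rw [← mul_one (P.1 (z * y))]
        exact mul_le_mul' le_rfl hx.le
      · obtain ⟨m, hm⟩ := Nat.exists_eq_succ_of_ne_zero h0.ne'
        rw [hm, Nat.succ_eq_add_one, pow_succ] at h1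
        rw [hm, Nat.succ_eq_add_one, Nat.add_sub_cancel]
        exact le_of_mul_le_mul_right h1 (zero_lt_iff.2 hx0)
  obtain ⟨p, q, hp, hq, hpq⟩ := h.exists_of_bdd hb
  have hq0 : q = 0 := by
    by_contra hne
    have := hq hne
    omega
  rw [hq0, map_zero, zero_mul, add_zero] at hpq
  refine ⟨p, ?_, ?_⟩
  · rw [h.genus_eq]
    rcases Nat.eq_zero_or_pos ((f.natDegree - 1) / 2) with h0 | h0
    · have hp0 : p = 0 := by
        rw [h0] at hp
        obtain ⟨c, rfl⟩ := natDegree_eq_zero.1 (Nat.le_zero.1 hp)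
        by_contra hne
        have hc : c ≠ 0 := by
          rintro rfl
          exact hne (map_zero _)
        have h7 : algebraMap (RatFunc k) K RatFunc.X ∉ Set.range (algebraMap k K) := by
          rintro ⟨d, hd⟩
          exact h.hx (hd ▸ isAlgebraic_algebraMap d)
        obtain ⟨P, hP⟩ := exists_pole h.isFunctionField h7
        have h8 := hinf P hP
        rw [hpq, aeval_C, K661.Place.val_const P hc, one_mul, h0, pow_zero] at h8
        exact absurd h8 (not_le.2 hP)
      rw [hp0, degree_zero]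
      exact WithBot.bot_lt_coe _
    · refine lt_of_le_of_lt (natDegree_le_iff_degree_le.1 hp) ?_
      exact_mod_cast (show (f.natDegree - 1) / 2 - 1 < (f.natDegree - 1) / 2 by omega)
  · rw [← aeval_X, ← hpq, mul_div_cancel_right₀ _ hy]

end Main

end K661.HypDiff
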