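import Groth.Agent.FunFld.K661.Hyp
import Groth.Agent.FunFld.K659.DegZeros
import Groth.Agent.S10982
import Mathlib.RingTheory.Polynomial.Basic

/-!
# The genus of `y² = f(x)`

`L(n (x)_∞) = {p(x) + q(x) y | deg p ≤ n, 2 deg q + deg f ≤ 2 n}`.
-/

set_option autoImplicit false
set_option linter.unusedSectionVars false
open WithZero Polynomial FunFld K660.Places

universe u v

namespace K661.Hyp

section Gen

variable {k : Type u} {K : Type v} [Field k] [Field K] [Algebra k K]

/-- The bound `|z|_P ≤ max(|x|_P, 1)^n` at all places. -/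
def Bdd (k : Type u) {K : Type v} [Field k] [Field K] [Algebra k K] (x : K) (n : ℕ) (z : K) : Prop :=
  ∀ P : Place k K, P.1 z ≤ max (P.1 x) 1 ^ n

theorem bdd_iff_mem (hK : IsFunctionField k K) {x : K} (hx : x ≠ 0) (n : ℕ) (z : K) :
    Bdd k x n z ↔ z ∈ L (n • K659.DegZeros.zdiv k x⁻¹) := by
  refine forall_congr' fun P => ?_
  have h1 : exp ((n • K659.DegZeros.zdiv k x⁻¹) P) = max (P.1 x) 1 ^ n := by
    rw [Finsupp.smul_apply, K659.DegZeros.zdiv_apply hK, exp_nsmul, K660.Ord.ord_inv]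
    congr 1
    rcases le_total (-(P.ord x)) 0 with h | h
    · rw [max_eq_right h, max_eq_right, exp_zero]
      rw [K660.Ord.val_le_one_iff P hx]
      omega
    · rw [max_eq_left h, max_eq_left, K660.Ord.val_eq_exp P hx]
      rw [K660.Ord.val_eq_exp P hx, ← exp_zero]
      exact exp_le_exp.2 h
  rw [h1]

theorem Bdd.add {x : K} {n : ℕ} {z w : K} (hz : Bdd k x n z) (hw : Bdd k x n w) :
    Bdd k x n (z + w) := fun P => (P.1.map_add _ _).trans (max_le (hz P) (hw P))

theorem Bdd.neg {x : K} {n : ℕ} {z : K} (hz : Bdd k x n z) : Bdd k x n (-z) := fun P => by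
  rw [Valuation.map_neg]; exact hz P

theorem Bdd.sub {x : K} {n : ℕ} {z w : K} (hz : Bdd k x n z) (hw : Bdd k x n w) :
    Bdd k x n (z - w) := by rw [sub_eq_add_neg]; exact hz.add hw.neg

theorem Bdd.mul {x : K} {n m : ℕ} {z w : K} (hz : Bdd k x n z) (hw : Bdd k x m w) :
    Bdd k x (n + m) (z * w) := fun P => by
  rw [map_mul, pow_add]; exact mul_le_mul' (hz P) (hw P)

theorem Bdd.const_mul {x : K} {n : ℕ} {z : K} (hz : Bdd k x n z) {c : k} (hc : c ≠ 0) :
    Bdd k x n (algebraMap k K c * z) := fun P => by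
  rw [map_mul, K661.Place.val_const P hc, one_mul]; exact hz P

theorem Bdd.of_sq {x : K} {n : ℕ} {z : K} (hz : Bdd k x (n + n) (z ^ 2)) : Bdd k x n z := fun P => by
  have h1 := hz P
  rw [map_pow, ← two_mul, pow_mul', ] at h1
  exact (pow_le_pow_iff_left₀ zero_le zero_le two_ne_zero).1 h1

theorem bdd_aeval {x : K} {n : ℕ} {p : k[X]} (hp : p.natDegree ≤ n) : Bdd k x n (aeval x p) := fun P => by
  by_cases h : P.1 x ≤ 1
  · rw [max_eq_right h, one_pow]
    exact val_aeval_le P h p
  · by_cases hp0 : p = 0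
    · simp [hp0]
    rw [K660.CrvFin.val_aeval h hp0, max_eq_left (not_le.1 h).le]
    exact pow_le_pow_right₀ (not_le.1 h).le hp

theorem Bdd.map {x : K} {n : ℕ} {z : K} (hz : Bdd k x n z)
    (σ : K ≃ₐ[IntermediateField.adjoin k {x}] K) : Bdd k x n (σ z) := fun P => by
  have h1 := hz (K661.Galois.comapEquiv P σ)
  rw [K661.Galois.comapEquiv_val, K661.Galois.comapEquiv_val] at h1
  have h2 : σ x = x := σ.commutes ⟨x, IntermediateField.mem_adjoin_simple_self k x⟩
  rwa [h2] at h1

/-- A bounded element of `k(x)` is a polynomial in `x`. -/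
theorem Bdd.exists_poly (hK : IsFunctionField k K) {x : K} (hx : Transcendental k x) {n : ℕ} {a : K}
    (ha : a ∈ IntermediateField.adjoin k {x}) (h : Bdd k x n a) :
    ∃ p : k[X], p.natDegree ≤ n ∧ a = aeval x p := by
  obtain ⟨p, q, hq, ⟨u, v, huv⟩, hpq⟩ := exists_coprime hx ha
  have h1 : q.natDegree = 0 := by
    by_contra h1
    obtain ⟨P, hP, hPx⟩ := K661.SepInf.exists_zero_aeval hK hx (Nat.pos_of_ne_zero h1)
    have h2 := h P
    rw [max_eq_right hPx, one_pow] at h2
    have h3 : P.1 (aeval x p) < 1 := by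
      rw [← hpq, map_mul]
      exact (mul_le_mul' h2 le_rfl).trans_lt (by rwa [one_mul])
    have h4 := congrArg (fun r => P.1 (aeval x r)) huv
    simp only [map_add, map_mul, map_one] at h4
    have h5 : P.1 (aeval x u * aeval x p + aeval x v * aeval x q) < 1 := by
      refine (P.1.map_add _ _).trans_lt (max_lt ?_ ?_)
      · rw [map_mul]
        exact (mul_le_mul' (val_aeval_le P hPx u) le_rfl).trans_lt (by rwa [one_mul])
      · rw [map_mul]
        exact (mul_le_mul' (val_aeval_le P hPx v) le_rfl).trans_lt (by rwa [one_mul])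
    rw [h4] at h5
    exact lt_irrefl _ h5
  obtain ⟨c, hc⟩ := natDegree_eq_zero.1 h1
  have hc0 : c ≠ 0 := by
    rintro rfl
    rw [map_zero] at hc
    exact hq hc.symm
  have h6 : a = aeval x (C c⁻¹ * p) := by
    rw [map_mul, ← hpq, ← hc, aeval_C, aeval_C, map_inv₀]
    have : algebraMap k K c ≠ 0 := by simpa using hc0
    field_simp
  refine ⟨C c⁻¹ * p, ?_, h6⟩
  have h7 : x ∉ Set.range (algebraMap k K) := by
    rintro ⟨d, hd⟩
    exact hx (hd ▸ isAlgebraic_algebraMap d)
  obtain ⟨P, hP⟩ := exists_pole hK h7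
  have h8 := h P
  by_cases hp0 : C c⁻¹ * p = 0
  · simp [hp0]
  have hP' : ¬ P.1 x ≤ 1 := not_le.2 hP
  rw [h6, K660.CrvFin.val_aeval hP' hp0, max_eq_left hP.le] at h8
  exact (pow_le_pow_iff_right₀ hP).1 h8

end Gen

namespace Data

variable {k : Type u} {K : Type v} [Field k] [Field K] [Algebra k K] {x y : K} {f : k[X]}
  (h : Data k x y f)

include h

/-- The form of the elements of `L(n (x)_∞)`. -/
theorem exists_of_bdd {n : ℕ} {z : K} (hz : Bdd k x n z) :
    ∃ p q : k[X], p.natDegree ≤ n ∧ (q ≠ 0 → 2 * q.natDegree + f.natDegree ≤ 2 * n) ∧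
      z = aeval x p + aeval x q * y := by
  have hK := h.isFunctionField
  obtain ⟨σ, hσ⟩ := h.exists_conj
  have hfix : ∀ a ∈ IntermediateField.adjoin k {x}, σ a = a := fun a ha => σ.commutes ⟨a, ha⟩
  obtain ⟨a, b, ha, hb, rfl⟩ := h.exists_decomp z
  have h1 : σ (a + b * y) = a - b * y := by
    rw [map_add, map_mul, hσ, hfix a ha, hfix b hb]
    ring
  have h2 := hz.map σ
  rw [h1] at h2
  have hinv : (algebraMap k K (2 : k)⁻¹) = (2 : K)⁻¹ := by rw [map_inv₀, map_ofNat]
  have h2K := h.two_ne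
  have h3 : Bdd k x n a := by
    have h4 := (hz.add h2).const_mul (inv_ne_zero h.h2)
    rw [hinv] at h4
    convert h4 using 1
    field_simp
    ring
  have h5 : Bdd k x n (b * y) := by
    have h4 := (hz.sub h2).const_mul (inv_ne_zero h.h2)
    rw [hinv] at h4
    convert h4 using 1
    field_simp
    ring
  obtain ⟨p, hp, hpa⟩ := h3.exists_poly hK h.hx ha
  have h6 : Bdd k x (n + n) (b ^ 2 * aeval x f) := by
    have h7 := h5.mul h5
    rwa [← pow_two, mul_pow, h.heq] at h7
  obtain ⟨r, hr, hrb⟩ := h6.exists_poly hK h.hx (mul_mem (pow_mem hb 2) h.f_mem)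
  obtain ⟨p', q', hq', hco, hpq'⟩ := exists_coprime h.hx hb
  have h8 : p' ^ 2 * f = r * q' ^ 2 := by
    apply aeval_inj h.hx
    rw [map_mul, map_mul, map_pow, map_pow, ← hpq', ← hrb]
    ring
  have h9 := isUnit_of_coprime hco h.hf h8
  obtain ⟨c, hc, hcq⟩ := Polynomial.isUnit_iff.1 h9
  have hc0 : c ≠ 0 := hc.ne_zero
  have h10 : b = aeval x (C c⁻¹ * p') := by
    rw [map_mul, ← hpq', ← hcq, aeval_C, aeval_C, map_inv₀]
    have : algebraMap k K c ≠ 0 := by simpa using hc0
    field_simp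
  refine ⟨p, C c⁻¹ * p', hp, fun hne => ?_, by rw [← hpa, ← h10]⟩
  have h11 : (C c⁻¹ * p') ^ 2 * f = r := by
    apply aeval_inj h.hx
    rw [map_mul, map_pow, ← h10, hrb]
  have h12 := congrArg natDegree h11
  rw [natDegree_mul (pow_ne_zero _ hne) h.f_ne_zero, natDegree_pow] at h12
  omega

theorem bdd_of {n : ℕ} {p q : k[X]} (hp : p.natDegree ≤ n)
    (hq : q ≠ 0 → 2 * q.natDegree + f.natDegree ≤ 2 * n) : Bdd k x n (aeval x p + aeval x q * y) := by
  refine (bdd_aeval hp).add ?_
  apply Bdd.of_sq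
  rw [mul_pow, h.heq, ← map_pow, ← map_mul]
  apply bdd_aeval
  by_cases hq0 : q = 0
  · simp [hq0]
  rw [natDegree_mul (pow_ne_zero _ hq0) h.f_ne_zero, natDegree_pow]
  have := hq hq0
  omega

/-- The parametrization of `L(n (x)_∞)`. -/
noncomputable def par (k : Type u) {K : Type v} [Field k] [Field K] [Algebra k K] (x y : K) (n m : ℕ) :
    (degreeLT k n × degreeLT k m) →ₗ[k] K :=
  LinearMap.coprod ((aeval x).toLinearMap ∘ₗ (degreeLT k n).subtype)
    (LinearMap.mulRight k y ∘ₗ (aeval x).toLinearMap ∘ₗ (degreeLT k m).subtype)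

omit h in
theorem par_apply (x y : K) (n m : ℕ) (z : degreeLT k n × degreeLT k m) :
    par k x y n m z = aeval x (z.1 : k[X]) + aeval x (z.2 : k[X]) * y := rfl

omit h in
theorem aeval_mem (p : k[X]) : aeval x p ∈ IntermediateField.adjoin k {x} := by
  have h1 : x ∈ IntermediateField.adjoin k {x} := IntermediateField.mem_adjoin_simple_self k x
  have h2 : aeval x p = algebraMap (IntermediateField.adjoin k {x}) K
      (aeval (⟨x, h1⟩ : IntermediateField.adjoin k {x}) p) := by
    rw [← aeval_algebraMap_apply]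
    rfl
  rw [h2]
  exact (aeval (⟨x, h1⟩ : IntermediateField.adjoin k {x}) p).2

theorem eq_zero_of_add (p q : k[X]) (h0 : aeval x p + aeval x q * y = 0) : p = 0 ∧ q = 0 := by
  have h1 : q = 0 := by
    by_contra hq
    apply h.y_notMem
    have h2 := aeval_ne_zero h.hx hq
    have h3 : y = -(aeval x p) * (aeval x q)⁻¹ := by
      field_simp
      linear_combination h0
    rw [h3]
    exact mul_mem (neg_mem (aeval_mem p)) (inv_mem (aeval_mem q))
  refine ⟨?_, h1⟩
  rw [h1, map_zero, zero_mul, add_zero] at h0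
  by_contra hp
  exact aeval_ne_zero h.hx hp h0

theorem par_injective (n m : ℕ) : Function.Injective (par k x y n m) := by
  rw [← LinearMap.ker_eq_bot, LinearMap.ker_eq_bot']
  rintro ⟨p, q⟩ h0
  obtain ⟨h1, h2⟩ := h.eq_zero_of_add p q h0
  ext1
  · exact Subtype.ext h1
  · exact Subtype.ext h2

theorem range_par {n m : ℕ} (hm : ∀ j : ℕ, j < m ↔ 2 * j + f.natDegree ≤ 2 * n) :
    LinearMap.range (par k x y (n + 1) m) = L (n • K659.DegZeros.zdiv k x⁻¹) := by
  have hK := h.isFunctionField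
  have hx0 := h.isGen.ne_zero
  ext z
  rw [← bdd_iff_mem hK hx0, LinearMap.mem_range]
  constructor
  · rintro ⟨⟨p, q⟩, rfl⟩
    rw [par_apply]
    refine h.bdd_of ?_ fun hq => ?_
    · have := mem_degreeLT.1 p.2
      by_cases hp : (p : k[X]) = 0
      · simp [hp]
      rw [← natDegree_lt_iff_degree_lt hp] at this
      exact Nat.lt_succ_iff.1 this
    · have := mem_degreeLT.1 q.2
      rw [← natDegree_lt_iff_degree_lt hq] at this
      exact (hm _).1 this
  · intro hz
    obtain ⟨p, q, hp, hq, rfl⟩ := h.exists_of_bdd hz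
    refine ⟨(⟨p, ?_⟩, ⟨q, ?_⟩), rfl⟩
    · rw [mem_degreeLT]
      exact (natDegree_le_iff_degree_le.1 hp).trans_lt (WithBot.coe_lt_coe.2 (Nat.lt_succ_self n))
    · rw [mem_degreeLT]
      by_cases hq0 : q = 0
      · rw [hq0, degree_zero]
        exact bot_lt_iff_ne_bot.2 (by simp)
      rw [← natDegree_lt_iff_degree_lt hq0]
      exact (hm _).2 (hq hq0)

theorem ell_eq {n m : ℕ} (hm : ∀ j : ℕ, j < m ↔ 2 * j + f.natDegree ≤ 2 * n) :
    ell (n • K659.DegZeros.zdiv k x⁻¹) = n + 1 + m := by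
  unfold ell
  rw [← h.range_par hm, LinearMap.finrank_range_of_inj (h.par_injective _ _), Module.finrank_prod]
  have h1 : ∀ n, Module.finrank k (degreeLT k n) = n := fun n => by
    rw [(degreeLTEquiv k n).finrank_eq, Module.finrank_fin_fun]
  rw [h1, h1]

theorem deg_eq (n : ℕ) : (n • K659.DegZeros.zdiv k x⁻¹).deg = 2 * n := by
  have hK := h.isFunctionField
  have hx' : Transcendental k x⁻¹ := h.isGen.inv.tr
  rw [K659.DegZeros.deg_nsmul, K659.DegZeros.deg_zdiv_eq hK hx']
  rw [Groth.Agent.MiscA.WCPlace.adjoin_inv, h.finrank_eq]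
  push_cast
  ring

theorem genus_eq : genus k K = (f.natDegree - 1) / 2 := by
  have hK := h.isFunctionField
  obtain ⟨-, N, hN⟩ := Groth.Agent.S10982.result k K hK
  let n := N.toNat + f.natDegree
  have h1 := hN (n • K659.DegZeros.zdiv k x⁻¹) (by
    rw [h.deg_eq]
    have := Int.self_le_toNat N
    push_cast [n]
    omega)
  rw [h.deg_eq, h.ell_eq (m := (2 * n - f.natDegree) / 2 + 1) (by intro j; omega)] at h1
  have := h.hd
  omega

end Data

end K661.Hyp
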