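import Groth.Agent.FunFld.K661.Place
import Groth.Agent.FunFld.K660.Ded
import Mathlib.NumberTheory.RamificationInertia.Valuation
import Mathlib.RingTheory.RamificationInertia.Basic

/-!
# Places above a place in a finite extension

`P : Place k K`, `K'/K` finite, `B` the integral closure of `P.O` in `K'`, assumed module-finite.
The places above `P` correspond to the height one primes of `B`.
-/

set_option autoImplicit false
set_option linter.unusedSectionVars false
open WithZero FunFld IsDedekindDomain K661.Place

namespace K661.Over

section Prime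

variable {k K : Type*} [Field k] [Field K] [Algebra k K]

/-- The maximal ideal of `P.O` as a height one prime. -/
noncomputable def maxSpec (P : Place k K) : HeightOneSpectrum P.O :=
  ⟨IsLocalRing.maximalIdeal P.O, inferInstance, IsDiscreteValuationRing.not_a_field P.O⟩

theorem maxSpec_valuation (P : Place k K) : (maxSpec P).valuation K = P.1 := by
  refine Groth.Agent.MiscA.WCDedekind.valuation_ext ((maxSpec P).valuation_exists_uniformizer K)
    (exists_unif P) fun x => ?_
  have h1 : ((maxSpec P).valuation K).valuationSubring = P.O := by
    symm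
    refine ValuationSubring.eq_of_le_of_ne_top _ ?_ ?_
    · intro x hx
      exact (maxSpec P).valuation_le_one (⟨x, hx⟩ : P.O)
    · intro hq
      obtain ⟨π, hπ⟩ := (maxSpec P).valuation_exists_uniformizer K
      have h3 : π⁻¹ ∈ ((maxSpec P).valuation K).valuationSubring := by
        rw [hq]
        exact ValuationSubring.mem_top _
      rw [Valuation.mem_valuationSubring_iff, map_inv₀, hπ, ← exp_neg, neg_neg, ← exp_zero,
        exp_le_exp] at h3
      omega
  have := SetLike.ext_iff.1 h1 x
  exact this

end Prime

variable {k K K' : Type*} [Field k] [Field K] [Field K'] [Algebra k K] [Algebra K K']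
  [Algebra k K'] [IsScalarTower k K K'] [FiniteDimensional K K'] (P : Place k K)
  [Algebra P.O K'] [IsScalarTower P.O K K']

theorem algebraMap_O (x : P.O) : algebraMap P.O K' x = algebraMap K K' (x : K) :=
  IsScalarTower.algebraMap_apply P.O K K' x

theorem isDedekind (hfin : Module.Finite P.O (integralClosure P.O K')) :
    IsDedekindDomain (integralClosure P.O K') :=
  K660.Ded.isDedekindDomain_of_finite P.O K K' hfin

theorem isFrac : IsFractionRing (integralClosure P.O K') K' :=
  integralClosure.isFractionRing_of_finite_extension K K'

theorem torsionFree : Module.IsTorsionFree P.O (integralClosure P.O K') := by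
  have h1 : FaithfulSMul P.O K' := by
    rw [faithfulSMul_iff_algebraMap_injective]
    intro x y hxy
    rw [algebraMap_O, algebraMap_O] at hxy
    exact Subtype.ext ((algebraMap K K').injective hxy)
  have h2 : Module.IsTorsionFree P.O K' := inferInstance
  exact Function.Injective.moduleIsTorsionFree (fun x : integralClosure P.O K' => (x : K'))
    Subtype.val_injective (fun _ _ => rfl)

theorem liesOver [hd : IsDedekindDomain (integralClosure P.O K')]
    (q : HeightOneSpectrum (integralClosure P.O K')) :
    q.asIdeal.LiesOver (maxSpec P).asIdeal := by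
  constructor
  have h1 : (q.asIdeal.under P.O).IsMaximal := by
    have := q.isMaximal
    exact Ideal.isMaximal_comap_of_isIntegral_of_isMaximal q.asIdeal
  exact (IsLocalRing.eq_maximalIdeal h1).symm

section

variable [hd : IsDedekindDomain (integralClosure P.O K')]

attribute [local instance] isFrac

theorem valuation_algebraMap (q : HeightOneSpectrum (integralClosure P.O K')) (x : K) :
    q.valuation K' (algebraMap K K' x) =
      P.1 x ^ (maxSpec P).asIdeal.ramificationIdx' q.asIdeal := by
  have := liesOver P q
  have := torsionFree (K' := K') P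
  have h := HeightOneSpectrum.valuation_liesOver K' (maxSpec P) q x
  rw [maxSpec_valuation] at h
  exact h.symm

/-- The place of a height one prime of the integral closure of `P.O`. -/
noncomputable def placeOf (q : HeightOneSpectrum (integralClosure P.O K')) : Place k K' :=
  ofVal (q.valuation K') (by
    intro c
    rw [IsScalarTower.algebraMap_apply k K K', valuation_algebraMap]
    exact pow_le_one' (P.2.1 c) _) (q.valuation_exists_uniformizer K')

theorem placeOf_val (q : HeightOneSpectrum (integralClosure P.O K')) :
    (placeOf P q).1 = q.valuation K' := rfl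

theorem placeOf_isOverWith (q : HeightOneSpectrum (integralClosure P.O K')) :
    IsOverWith (placeOf P q) P ((maxSpec P).asIdeal.ramificationIdx' q.asIdeal) :=
  valuation_algebraMap P q

theorem placeOf_isOver (q : HeightOneSpectrum (integralClosure P.O K')) :
    IsOver (placeOf P q) P := ⟨_, placeOf_isOverWith P q⟩

theorem placeOf_injective : Function.Injective (placeOf (K' := K') P) := by
  intro p q hpq
  have h1 : p.valuation K' = q.valuation K' := congrArg Subtype.val hpq
  apply HeightOneSpectrum.ext
  ext a
  rw [← HeightOneSpectrum.valuation_lt_one_iff_mem (K := K'), h1,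
    HeightOneSpectrum.valuation_lt_one_iff_mem]

theorem integralClosure_le {Q : Place k K'} (hQ : IsOver Q P) {x : K'} (hx : IsIntegral P.O x) :
    Q.1 x ≤ 1 := by
  refine mem_of_isIntegral Q.O (fun r => ?_) hx
  rw [mem_O, algebraMap_O, val_algebraMap_le_one_iff hQ]
  exact r.2

theorem exists_placeOf {Q : Place k K'} (hQ : IsOver Q P) :
    ∃ q : HeightOneSpectrum (integralClosure P.O K'), placeOf P q = Q := by
  obtain ⟨p, hp⟩ := Groth.Agent.MiscA.WCDedekind.exists_eq_valuationSubring
    (A := integralClosure P.O K') Q.O (O_ne_top Q) (fun a => integralClosure_le P hQ (x := (a : K')) a.2)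
  exact ⟨p, ext_O hp⟩

/-- Places above `P` and height one primes of the integral closure. -/
noncomputable def placeEquiv : HeightOneSpectrum (integralClosure P.O K') ≃
    {Q : Place k K' // IsOver Q P} :=
  Equiv.ofBijective (fun q => ⟨placeOf P q, placeOf_isOver P q⟩)
    ⟨fun _ _ hpq => placeOf_injective P (congrArg Subtype.val hpq), fun Q => by
      obtain ⟨p, hp⟩ := exists_placeOf P Q.2
      exact ⟨p, Subtype.ext hp⟩⟩

theorem ramIdx_placeOf [Module.Finite P.O (integralClosure P.O K')]
    (q : HeightOneSpectrum (integralClosure P.O K')) :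
    ramIdx (placeOf P q) P = q.asIdeal.ramificationIdx P.O := by
  have := liesOver P q
  have := torsionFree (K' := K') P
  rw [ramIdx_eq (placeOf_isOverWith P q)]
  exact Ideal.ramificationIdx'_eq_ramificationIdx (maxSpec P).asIdeal q.asIdeal (maxSpec P).ne_bot


/-- The residue field of the place of `q` is `B ⧸ q`. -/
theorem deg_placeOf [Module.Finite P.O (integralClosure P.O K')]
    (q : HeightOneSpectrum (integralClosure P.O K')) :
    (placeOf P q).deg = q.asIdeal.inertiaDeg P.O * P.deg := by
  have hlo := liesOver P q
  have hmax := q.isMaximal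
  have htower : IsScalarTower k P.O K' := IsScalarTower.of_algebraMap_eq fun c => by
    rw [algebraMap_O, IsScalarTower.algebraMap_apply k K K']
    rfl
  have hmaxP : (maxSpec P).asIdeal.IsMaximal := (maxSpec P).isMaximal
  -- the map `B → F_Q`
  let φ : integralClosure P.O K' →ₐ[k] IsLocalRing.ResidueField (placeOf P q).O :=
    { toRingHom := (IsLocalRing.residue (placeOf P q).O).comp
        ((algebraMap (integralClosure P.O K') K').codRestrict (placeOf P q).O.toSubring
          fun b => q.valuation_le_one b)
      commutes' := fun c => by
        have h1 : (((algebraMap (integralClosure P.O K') K').codRestrict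
            (placeOf P q).O.toSubring fun b => q.valuation_le_one b)
            (algebraMap k (integralClosure P.O K') c)) = algebraMap k (placeOf P q).O c :=
          Subtype.ext (by
            change ((algebraMap k (integralClosure P.O K') c : integralClosure P.O K') : K') =
              algebraMap k K' c
            rfl)
        change IsLocalRing.residue (placeOf P q).O _ = _
        rw [h1]
        rfl }
  have hφ : ∀ b, φ b = IsLocalRing.residue (placeOf P q).O ⟨(b : K'), q.valuation_le_one b⟩ :=
    fun b => rfl
  have hker : RingHom.ker φ = q.asIdeal := by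
    ext b
    rw [RingHom.mem_ker, hφ, IsLocalRing.residue_eq_zero_iff, mem_maximalIdeal_iff]
    exact HeightOneSpectrum.valuation_lt_one_iff_mem q b
  have hsurj : Function.Surjective φ := by
    intro y
    obtain ⟨⟨x, hx⟩, rfl⟩ := IsLocalRing.residue_surjective y
    obtain ⟨a, ha⟩ := q.exists_valuation_sub_lt_of_integer (K := K') hx 1
    refine ⟨a, ?_⟩
    rw [hφ, ← sub_eq_zero, ← map_sub, IsLocalRing.residue_eq_zero_iff, mem_maximalIdeal_iff]
    change q.valuation K' ((a : K') - x) < 1
    simpa using ha
  let e : (integralClosure P.O K' ⧸ q.asIdeal) ≃ₐ[k] IsLocalRing.ResidueField (placeOf P q).O :=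
    (Ideal.quotientEquivAlgOfEq k hker.symm).trans (Ideal.quotientKerAlgEquivOfSurjective hsurj)
  have h1 : (placeOf P q).deg = Module.finrank k (integralClosure P.O K' ⧸ q.asIdeal) :=
    e.toLinearEquiv.finrank_eq.symm
  have h2 : P.deg = Module.finrank k (P.O ⧸ (maxSpec P).asIdeal) :=
    (AlgEquiv.ofRingEquiv (f := RingEquiv.refl (P.O ⧸ (maxSpec P).asIdeal))
      (fun c => rfl) : IsLocalRing.ResidueField P.O ≃ₐ[k] (P.O ⧸ (maxSpec P).asIdeal)
      ).toLinearEquiv.finrank_eq
  let _ : Field (P.O ⧸ (maxSpec P).asIdeal) := Ideal.Quotient.field _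
  have h3 : IsScalarTower k (P.O ⧸ (maxSpec P).asIdeal) (integralClosure P.O K' ⧸ q.asIdeal) :=
    IsScalarTower.of_algebraMap_eq fun c => by
      have h5 : algebraMap k (P.O ⧸ (maxSpec P).asIdeal) c =
        Ideal.Quotient.mk (maxSpec P).asIdeal (algebraMap k P.O c) := rfl
      have h6 : algebraMap k (integralClosure P.O K') c =
        algebraMap P.O (integralClosure P.O K') (algebraMap k P.O c) :=
        Subtype.ext (IsScalarTower.algebraMap_apply k P.O K' c)
      rw [h5, Ideal.Quotient.algebraMap_mk_of_liesOver, ← h6]
      rfl
  rw [h1, h2, Ideal.inertiaDeg_eq_of_isMaximal (maxSpec P).asIdeal q.asIdeal, mul_comm]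
  exact (Module.finrank_mul_finrank k (P.O ⧸ (maxSpec P).asIdeal) _).symm

theorem finrank_integralClosure [hf : Module.Finite P.O (integralClosure P.O K')] :
    Module.finrank P.O (integralClosure P.O K') = Module.finrank K K' := by
  have := torsionFree (K' := K') P
  have h2 : Module.Free P.O (integralClosure P.O K') := inferInstance
  have : IsLocalization (Algebra.algebraMapSubmonoid (integralClosure P.O K')
      (nonZeroDivisors P.O)) K' :=
    IsIntegralClosure.isLocalization P.O K K' (integralClosure P.O K')
  let b := Module.Basis.localizationLocalization K (nonZeroDivisors P.O) K'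
    (Module.Free.chooseBasis P.O (integralClosure P.O K'))
  rw [Module.finrank_eq_card_chooseBasisIndex, Module.finrank_eq_card_basis b]

theorem finite_primes [hf : Module.Finite P.O (integralClosure P.O K')] :
    ((maxSpec P).asIdeal.primesOver (integralClosure P.O K')).Finite :=
  Algebra.QuasiFinite.finite_primesOver _

theorem finite_over [hf : Module.Finite P.O (integralClosure P.O K')] :
    {Q : Place k K' | IsOver Q P}.Finite := by
  have h1 : (Set.range fun q : HeightOneSpectrum (integralClosure P.O K') => q.asIdeal).Finite := by
    refine (finite_primes (K' := K') P).subset ?_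
    rintro _ ⟨q, rfl⟩
    exact ⟨q.isPrime, liesOver P q⟩
  have h2 : Finite (HeightOneSpectrum (integralClosure P.O K')) := by
    have := h1.to_subtype
    refine Finite.of_injective (fun q => (⟨q.asIdeal, ⟨q, rfl⟩⟩ :
      Set.range fun q : HeightOneSpectrum (integralClosure P.O K') => q.asIdeal)) ?_
    intro p q hpq
    exact HeightOneSpectrum.ext (congrArg Subtype.val hpq)
  have := Finite.of_equiv _ (placeEquiv (K' := K') P)
  exact this

theorem exists_over : ∃ Q : Place k K', IsOver Q P := by
  obtain ⟨M, hM⟩ := Ideal.exists_maximal (integralClosure P.O K')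
  have hnf : ¬ IsField (integralClosure P.O K') := by
    intro hf
    have := torsionFree (K' := K') P
    have h3 : IsField P.O :=
      isField_of_isIntegral_of_isField (S := integralClosure P.O K')
        (FaithfulSMul.algebraMap_injective _ _) hf
    exact IsDiscreteValuationRing.not_isField P.O h3
  exact ⟨_, placeOf_isOver P ⟨M, hM.isPrime, Ring.ne_bot_of_isMaximal_of_not_isField hM hnf⟩⟩

theorem sum_eq [hf : Module.Finite P.O (integralClosure P.O K')]
    (Qs : Finset (Place k K')) (hQs : ∀ Q, Q ∈ Qs ↔ IsOver Q P) :
    (∑ Q ∈ Qs, ramIdx Q P * Q.deg) = Module.finrank K K' * P.deg := by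
  classical
  have := torsionFree (K' := K') P
  have hflat : Module.Flat P.O (integralClosure P.O K') := inferInstance
  let := (finite_primes (K' := K') P).fintype
  have hsum := Ideal.sum_ramification_inertia_eq_finrank (maxSpec P).asIdeal
    (integralClosure P.O K')
  rw [finrank_integralClosure P] at hsum
  rw [← hsum, Finset.sum_mul]
  have hspec : ∀ q : (maxSpec P).asIdeal.primesOver (integralClosure P.O K'), q.1 ≠ ⊥ := fun q =>
    Ideal.ne_bot_of_mem_primesOver (maxSpec P).ne_bot q.2
  symm
  refine Finset.sum_bij (fun q _ => placeOf P ⟨q.1, q.2.1, hspec q⟩) ?_ ?_ ?_ ?_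
  · intro q _
    rw [hQs]
    exact placeOf_isOver P _
  · intro q _ q' _ h
    have := placeOf_injective P h
    exact Subtype.ext (congrArg HeightOneSpectrum.asIdeal this)
  · intro Q hQ
    obtain ⟨q, rfl⟩ := exists_placeOf P ((hQs Q).1 hQ)
    exact ⟨⟨q.asIdeal, q.isPrime, liesOver P q⟩, Finset.mem_univ _, rfl⟩
  · intro q _
    rw [ramIdx_placeOf, deg_placeOf, mul_assoc]

end

end K661.Over
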