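import Groth.Agent.FunFld.K661.Geom
import Groth.Agent.FunFld.K660.Sep
import Groth.Agent.FunFld.K661.Hyp
import Mathlib.RingTheory.TensorProduct.MvPolynomial
import Mathlib.RingTheory.Jacobson.Ring
import Mathlib.LinearAlgebra.TensorProduct.Basis
import Mathlib.Algebra.MvPolynomial.NoZeroDivisors
import Mathlib.RingTheory.KrullDimension.Polynomial
import Mathlib.RingTheory.Polynomial.UniqueFactorization
import Mathlib.RingTheory.AlgebraicIndependent.Transcendental

/-!
# Absolutely irreducible plane models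
-/

set_option autoImplicit false
set_option linter.unusedSectionVars false
open FunFld TensorProduct K660.Places

universe u v

namespace K661.PlaneModel

variable {k : Type u} {K : Type v} [Field k] [Field K] [Algebra k K]

/-- The evaluation map over an extension of the base. -/
noncomputable def Phi (k' : Type u) [Field k'] [Algebra k k'] (x y : K) :
    MvPolynomial (Fin 2) k' →ₐ[k'] k' ⊗[k] K :=
  MvPolynomial.aeval ![(1 : k') ⊗ₜ[k] x, (1 : k') ⊗ₜ[k] y]

theorem Phi_map (k' : Type u) [Field k'] [Algebra k k'] (x y : K) (g : MvPolynomial (Fin 2) k) :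
    Phi (k := k) k' x y (MvPolynomial.map (algebraMap k k') g) =
      (1 : k') ⊗ₜ[k] (MvPolynomial.aeval ![x, y] g) := by
  rw [← MvPolynomial.aeval_one_tmul, Phi, MvPolynomial.aeval_map_algebraMap]
  congr 2
  ext i
  fin_cases i <;> rfl

theorem Phi_tmul (k' : Type u) [Field k'] [Algebra k k'] (x y : K) (c : k')
    (g : MvPolynomial (Fin 2) k) :
    Phi (k := k) k' x y (MvPolynomial.algebraTensorAlgEquiv k k' (c ⊗ₜ g)) =
      c ⊗ₜ[k] (MvPolynomial.aeval ![x, y] g) := by
  rw [MvPolynomial.algebraTensorAlgEquiv_tmul, map_smul, Phi_map, TensorProduct.smul_tmul', smul_eq_mul,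
    mul_one]

/-- The kernel of the evaluation over an extension. -/
theorem ker_Phi (k' : Type u) [Field k'] [Algebra k k'] {x y : K} {f : MvPolynomial (Fin 2) k}
    (h : RingHom.ker (MvPolynomial.aeval ![x, y] : MvPolynomial (Fin 2) k →ₐ[k] K) =
      Ideal.span {f}) :
    RingHom.ker (Phi (k := k) k' x y) = Ideal.span {MvPolynomial.map (algebraMap k k') f} := by
  apply le_antisymm
  · intro g hg
    rw [RingHom.mem_ker] at hg
    obtain ⟨T, rfl⟩ := (MvPolynomial.algebraTensorAlgEquiv k k').surjective g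
    let b := Module.Basis.ofVectorSpace k k'
    obtain ⟨c, hc⟩ := TensorProduct.eq_repr_basis_left b T
    have h1 : (c.sum fun i n => b i ⊗ₜ[k] (MvPolynomial.aeval ![x, y] n : K)) = 0 := by
      rw [← hg, ← hc]
      simp only [Finsupp.sum, map_sum]
      exact Finset.sum_congr rfl fun i _ => (Phi_tmul k' x y _ _).symm
    have h2 := TensorProduct.sum_tmul_basis_left_eq_zero (ℬ := b)
      (c.mapRange (MvPolynomial.aeval ![x, y] : MvPolynomial (Fin 2) k →ₐ[k] K) (map_zero _)) (by
      rw [Finsupp.sum_mapRange_index (fun i => TensorProduct.tmul_zero _ _)]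
      exact h1)
    rw [← hc, Finsupp.sum, map_sum]
    refine Ideal.sum_mem _ fun i _ => ?_
    have h3 : (MvPolynomial.aeval ![x, y] (c i) : K) = 0 := by
      have := DFunLike.congr_fun h2 i
      simpa using this
    have h4 : c i ∈ Ideal.span {f} := by
      rw [← h]
      exact h3
    obtain ⟨d, hd⟩ := Ideal.mem_span_singleton.1 h4
    rw [hd, MvPolynomial.algebraTensorAlgEquiv_tmul, Ideal.mem_span_singleton, map_mul]
    exact ⟨b i • MvPolynomial.map (algebraMap k k') d, by rw [mul_smul_comm]⟩
  · rw [Ideal.span_singleton_le_iff_mem, RingHom.mem_ker, Phi_map]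
    have h1 : (MvPolynomial.aeval ![x, y] f : K) = 0 := by
      have : f ∈ RingHom.ker (MvPolynomial.aeval ![x, y] : MvPolynomial (Fin 2) k →ₐ[k] K) := by
        rw [h]; exact Ideal.mem_span_singleton_self f
      exact this
    rw [h1, TensorProduct.tmul_zero]

/-- The kernel is not maximal if `x` is transcendental. -/
theorem ker_not_isMaximal {x y : K} (hx : Transcendental k x) :
    ¬ (RingHom.ker (MvPolynomial.aeval ![x, y] : MvPolynomial (Fin 2) k →ₐ[k] K)).IsMaximal := by
  intro hmax
  let 𝔭 := RingHom.ker (MvPolynomial.aeval ![x, y] : MvPolynomial (Fin 2) k →ₐ[k] K)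
  let := Ideal.Quotient.field 𝔭
  have h1 : Module.Finite k (MvPolynomial (Fin 2) k ⧸ 𝔭) :=
    finite_of_finite_type_of_isJacobsonRing _ _
  let φ : (MvPolynomial (Fin 2) k ⧸ 𝔭) →ₐ[k] K := Ideal.kerLiftAlg _
  apply hx
  have h2 : φ (Ideal.Quotient.mkₐ k 𝔭 (MvPolynomial.X 0)) = x := by
    have := Ideal.kerLiftAlg_mk (MvPolynomial.aeval ![x, y] : MvPolynomial (Fin 2) k →ₐ[k] K)
      (MvPolynomial.X 0)
    refine this.trans ?_
    simp
  rw [← h2]
  exact (Algebra.IsAlgebraic.isAlgebraic _).algHom φ

/-- The relations of `x, y` are the multiples of an irreducible relation. -/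
theorem ker_eq_span {x y : K} (hx : Transcendental k x) {f : MvPolynomial (Fin 2) k}
    (hf : Irreducible f) (hfxy : MvPolynomial.aeval ![x, y] f = 0) :
    RingHom.ker (MvPolynomial.aeval ![x, y] : MvPolynomial (Fin 2) k →ₐ[k] K) = Ideal.span {f} := by
  by_contra hne'
  set 𝔭 := RingHom.ker (MvPolynomial.aeval ![x, y] : MvPolynomial (Fin 2) k →ₐ[k] K) with h𝔭
  have hprime : 𝔭.IsPrime := RingHom.ker_isPrime _
  have hfprime : (Ideal.span {f}).IsPrime :=
    (Ideal.span_singleton_prime hf.ne_zero).mpr hf.prime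
  obtain ⟨𝔪, hmax, hle⟩ := 𝔭.exists_le_maximal hprime.ne_top
  have hne : 𝔭 ≠ 𝔪 := by
    rintro h
    rw [← h] at hmax
    exact ker_not_isMaximal hx hmax
  have h1 : (⊥ : Ideal (MvPolynomial (Fin 2) k)) < Ideal.span {f} := by
    rw [bot_lt_iff_ne_bot, Ne, Ideal.span_singleton_eq_bot]; exact hf.ne_zero
  have h2 : Ideal.span {f} < 𝔭 := by
    refine lt_of_le_of_ne ?_ (Ne.symm hne')
    rw [Ideal.span_singleton_le_iff_mem]; exact hfxy
  have h3 : 𝔭 < 𝔪 := lt_of_le_of_ne hle hne
  let s : LTSeries (PrimeSpectrum (MvPolynomial (Fin 2) k)) :=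
    LTSeries.mk 3 ![⟨⊥, Ideal.isPrime_bot⟩, ⟨Ideal.span {f}, hfprime⟩, ⟨𝔭, hprime⟩,
      ⟨𝔪, hmax.isPrime⟩] (by
      rw [Fin.strictMono_iff_lt_succ]
      intro i
      fin_cases i
      · exact h1
      · exact h2
      · exact h3)
  have h4 : (3 : WithBot ℕ∞) ≤ ringKrullDim (MvPolynomial (Fin 2) k) :=
    Order.LTSeries.length_le_krullDim s
  rw [MvPolynomial.ringKrullDim_of_isNoetherianRing, ringKrullDim_eq_zero_of_field] at h4
  simp at h4
  exact absurd h4 (by decide)

theorem exists_option {x y : K} (hx : Transcendental k x)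
    (h : ¬ AlgebraicIndependent k ![x, y]) : IsAlgebraic (IntermediateField.adjoin k {x}) y := by
  by_contra hcon
  apply h
  have hta : AlgebraicIndependent k (fun _ : Unit => x) :=
    (algebraicIndependent_unique_type_iff (ι := Unit) (x := fun _ => x)).mpr hx
  have hr : Set.range (fun _ : Unit => x) = {x} := by ext; simp [eq_comm]
  have h1 : Transcendental (Algebra.adjoin k (Set.range (fun _ : Unit => x))) y := by
    rw [hr]
    intro halg
    apply hcon
    obtain ⟨p, hp, hpy⟩ := halg
    let i : Algebra.adjoin k {x} →ₐ[k] IntermediateField.adjoin k {x} :=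
      Subalgebra.inclusion (IntermediateField.algebra_adjoin_le_adjoin k {x})
    have hi : Function.Injective i := Subalgebra.inclusion_injective _
    refine ⟨p.map i.toRingHom, (Polynomial.map_ne_zero_iff hi).2 hp, ?_⟩
    rw [Polynomial.aeval_def, Polynomial.eval₂_map]
    exact hpy
  have h2 := (hta.option_iff_transcendental y).2 h1
  have h3 := h2.comp (![some (), none] : Fin 2 → Option Unit) (by
    intro i j hij
    fin_cases i <;> fin_cases j <;> simp_all)
  convert h3 using 1
  ext i
  fin_cases i <;> rfl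

theorem isGen_of {x y : K} (hx : Transcendental k x)
    (h : ¬ AlgebraicIndependent k ![x, y])
    (hxy : IntermediateField.adjoin k ({x, y} : Set K) = ⊤) : IsGen k K x := by
  refine ⟨hx, ?_⟩
  have h1 : IntermediateField.adjoin (IntermediateField.adjoin k {x}) {y} = ⊤ := by
    have h1 := IntermediateField.adjoin_adjoin_left k {x} {y} (E := K)
    rw [Set.singleton_union, hxy] at h1
    rw [← IntermediateField.restrictScalars_eq_top_iff (K := k)]
    exact h1
  have h2 := IntermediateField.adjoin.finiteDimensional (exists_option hx h).isIntegral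
  rw [h1] at h2
  exact Module.Finite.equiv IntermediateField.topEquiv.toLinearEquiv

theorem exists_irreducible (hK : IsFunctionField k K) (x y : K) :
    ∃ f : MvPolynomial (Fin 2) k, Irreducible f ∧ MvPolynomial.aeval ![x, y] f = 0 := by
  have hne : RingHom.ker (MvPolynomial.aeval ![x, y] : MvPolynomial (Fin 2) k →ₐ[k] K) ≠ ⊥ := by
    intro hbot
    have hind : AlgebraicIndependent k ![x, y] := by
      rw [algebraicIndependent_iff_injective_aeval]
      exact (RingHom.injective_iff_ker_eq_bot _).mpr hbot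
    obtain ⟨t, ht⟩ := exists_isGen hK
    have h1 := hind.lift_cardinalMk_le_trdeg
    rw [K660.Sep.trdeg_eq_one ht, Cardinal.mk_fin] at h1
    simp at h1
  obtain ⟨f, hf, hfp⟩ := Ideal.IsPrime.exists_mem_prime_of_ne_bot (RingHom.ker_isPrime _) hne
  exact ⟨f, hfp.irreducible, hf⟩

/-- `⇒` -/
theorem exists_model (hK : IsFunctionField k K) (hg : IsGeometric k K) :
    ∃ (x y : K) (f : MvPolynomial (Fin 2) k),
        IntermediateField.adjoin k ({x, y} : Set K) = ⊤ ∧
        (∀ (k' : Type u) [Field k'] [Algebra k k'], FiniteDimensional k k' →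
          Irreducible (MvPolynomial.map (algebraMap k k') f)) ∧
        RingHom.ker (MvPolynomial.aeval ![x, y] : MvPolynomial (Fin 2) k →ₐ[k] K) = Ideal.span {f} := by
  obtain ⟨x, hx, hsep⟩ := K660.Sep.exists_isSeparable hK hg
  have := hx.fin
  obtain ⟨y, hy⟩ := Field.exists_primitive_element (IntermediateField.adjoin k {x}) K
  obtain ⟨f, hf, hfxy⟩ := exists_irreducible hK x y
  have hker := ker_eq_span hx.tr hf hfxy
  refine ⟨x, y, f, ?_, fun k' _ _ hk' => ?_, hker⟩
  · have h1 := IntermediateField.adjoin_adjoin_left k {x} {y} (E := K)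
    rw [Set.singleton_union, hy] at h1
    rw [← h1]
    rfl
  · have hF := hg k' hk'
    let := hF.toField
    have h1 := ker_Phi k' hker
    have h2 : (RingHom.ker (Phi (k := k) k' x y)).IsPrime := RingHom.ker_isPrime _
    rw [h1] at h2
    have h3 : MvPolynomial.map (algebraMap k k') f ≠ 0 :=
      (map_ne_zero_iff _ (MvPolynomial.map_injective _ (algebraMap k k').injective)).2 hf.ne_zero
    exact ((Ideal.span_singleton_prime h3).1 h2).irreducible

/-- An irreducible generator excludes that both are algebraic. -/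
theorem not_both {x y : K} {f : MvPolynomial (Fin 2) k} (hf : Irreducible f)
    (hker : RingHom.ker (MvPolynomial.aeval ![x, y] : MvPolynomial (Fin 2) k →ₐ[k] K) =
      Ideal.span {f}) (hx : IsAlgebraic k x) (hy : IsAlgebraic k y) : False := by
  classical
  have key : ∀ (i j : Fin 2) (_ : i ≠ j) (p : Polynomial k) (_ : p ≠ 0)
      (_ : Polynomial.aeval (![x, y] i) p = 0), MvPolynomial.degreeOf j f = 0 := by
    intro i j hij p hp hp0
    have h1 : Polynomial.aeval (MvPolynomial.X i : MvPolynomial (Fin 2) k) p ∈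
        Ideal.span {f} := by
      rw [← hker, RingHom.mem_ker, ← Polynomial.aeval_algHom_apply, MvPolynomial.aeval_X]
      exact hp0
    obtain ⟨g, hg⟩ := Ideal.mem_span_singleton.1 h1
    have h2 : Polynomial.aeval (MvPolynomial.X i : MvPolynomial (Fin 2) k) p ≠ 0 := by
      intro h0
      exact MvPolynomial.transcendental_X k i ⟨p, hp, h0⟩
    have hg0 : g ≠ 0 := by
      rintro rfl
      rw [mul_zero] at hg
      exact h2 hg
    have h3 : MvPolynomial.degreeOf j (Polynomial.aeval (MvPolynomial.X i : MvPolynomial (Fin 2) k) p)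
        = 0 := by
      rw [Polynomial.aeval_eq_sum_range]
      rw [← Nat.le_zero]
      refine (MvPolynomial.degreeOf_sum_le _ _ _).trans ?_
      refine Finset.sup_le fun a _ => ?_
      rw [MvPolynomial.smul_eq_C_mul]
      refine (MvPolynomial.degreeOf_C_mul_le _ _ _).trans ?_
      rw [MvPolynomial.degreeOf_X_pow_of_ne]
      exact hij.symm
    rw [hg, MvPolynomial.degreeOf_mul_eq hf.ne_zero hg0] at h3
    omega
  obtain ⟨p, hp, hpx⟩ := hx
  obtain ⟨q, hq, hqy⟩ := hy
  have h0 := key 1 0 (by decide) q hq hqy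
  have h1 := key 0 1 (by decide) p hp hpx
  have h2 : f.totalDegree = 0 := by
    rw [← Nat.le_zero]
    refine (MvPolynomial.totalDegree_le_degrees_card f).trans ?_
    have h3 : f.degrees = 0 := by
      apply Multiset.eq_zero_of_forall_notMem
      intro i
      rw [← Multiset.count_eq_zero, ← MvPolynomial.degreeOf_def]
      fin_cases i
      · exact h0
      · exact h1
    rw [h3, Multiset.card_zero]
  rw [MvPolynomial.totalDegree_eq_zero_iff_eq_C] at h2
  apply hf.not_isUnit
  rw [h2]
  apply IsUnit.map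
  rw [isUnit_iff_ne_zero]
  intro h4
  rw [h4, map_zero] at h2
  exact hf.ne_zero h2

/-- The tensor product is a domain. -/
theorem isDomain_tensor {x y : K} {f : MvPolynomial (Fin 2) k}
    (hxy : IntermediateField.adjoin k ({x, y} : Set K) = ⊤)
    (hker : RingHom.ker (MvPolynomial.aeval ![x, y] : MvPolynomial (Fin 2) k →ₐ[k] K) =
      Ideal.span {f}) (k' : Type u) [Field k'] [Algebra k k']
    (hirr : Irreducible (MvPolynomial.map (algebraMap k k') f)) : IsDomain (k' ⊗[k] K) := by
  have hinj : Function.Injective (Algebra.TensorProduct.includeRight : K →ₐ[k] k' ⊗[k] K) :=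
    Algebra.TensorProduct.includeRight_injective (algebraMap k k').injective
  have hnt : Nontrivial (k' ⊗[k] K) := hinj.nontrivial
  have hfr : ∀ z : K, ∃ s g : MvPolynomial (Fin 2) k, MvPolynomial.aeval ![x, y] s ≠ (0 : K) ∧
      z * MvPolynomial.aeval ![x, y] s = MvPolynomial.aeval ![x, y] g := by
    intro z
    have hr : Set.range ![x, y] = {x, y} := by
      rw [Matrix.range_cons, Matrix.range_cons, Matrix.range_empty, Set.union_empty,
        Set.singleton_union]
    have h1 : z ∈ IntermediateField.adjoin k (Set.range ![x, y]) := by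
      rw [hr, hxy]; exact IntermediateField.mem_top
    rw [IntermediateField.mem_adjoin_range_iff] at h1
    obtain ⟨r, s, hrs⟩ := h1
    by_cases hs : MvPolynomial.aeval ![x, y] s = (0 : K)
    · refine ⟨1, 0, by simp, ?_⟩
      rw [hrs, hs]
      simp
    · exact ⟨s, r, hs, by rw [hrs, div_mul_cancel₀ _ hs]⟩
  have hfr' : ∀ u : k' ⊗[k] K, ∃ (s : MvPolynomial (Fin 2) k) (g : MvPolynomial (Fin 2) k'),
      MvPolynomial.aeval ![x, y] s ≠ (0 : K) ∧
      u * ((1 : k') ⊗ₜ[k] MvPolynomial.aeval ![x, y] s) = Phi (k := k) k' x y g := by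
    intro u
    induction u with
    | zero => exact ⟨1, 0, by simp, by simp⟩
    | tmul c z =>
      obtain ⟨s, g, hs, hg⟩ := hfr z
      refine ⟨s, MvPolynomial.algebraTensorAlgEquiv k k' (c ⊗ₜ g), hs, ?_⟩
      rw [Phi_tmul, Algebra.TensorProduct.tmul_mul_tmul, mul_one, hg]
    | add u v hu hv =>
      obtain ⟨s, g, hs, hg⟩ := hu
      obtain ⟨t, j, ht, hj⟩ := hv
      refine ⟨s * t, g * MvPolynomial.map (algebraMap k k') t + j * MvPolynomial.map (algebraMap k k') s,
        by rw [map_mul]; exact mul_ne_zero hs ht, ?_⟩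
      simp only [map_add, map_mul, Phi_map, ← hg, ← hj]
      have h1 : (1 : k') ⊗ₜ[k] ((MvPolynomial.aeval ![x, y] s : K) * MvPolynomial.aeval ![x, y] t) =
          ((1 : k') ⊗ₜ[k] (MvPolynomial.aeval ![x, y] s : K)) *
            ((1 : k') ⊗ₜ[k] (MvPolynomial.aeval ![x, y] t : K)) := by
        rw [Algebra.TensorProduct.tmul_mul_tmul, mul_one]
      rw [h1]
      ring
  have hcancel : ∀ (u : k' ⊗[k] K) (s : K), s ≠ 0 → u * ((1 : k') ⊗ₜ[k] s) = 0 → u = 0 := by
    intro u s hs hu
    have h1 := congrArg (fun w => w * ((1 : k') ⊗ₜ[k] s⁻¹)) hu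
    simp only [zero_mul] at h1
    rw [mul_assoc, Algebra.TensorProduct.tmul_mul_tmul, mul_inv_cancel₀ hs, mul_one,
      ← Algebra.TensorProduct.one_def, mul_one] at h1
    exact h1
  have hker' := ker_Phi k' hker
  have hnz : NoZeroDivisors (k' ⊗[k] K) := by
    refine ⟨fun {u v} huv => ?_⟩
    obtain ⟨s, g, hs, hg⟩ := hfr' u
    obtain ⟨t, j, ht, hj⟩ := hfr' v
    have h1 : Phi (k := k) k' x y (g * j) = 0 := by
      rw [map_mul, ← hg, ← hj, mul_mul_mul_comm, huv, zero_mul]
    have h2 : g * j ∈ RingHom.ker (Phi (k := k) k' x y) := h1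
    rw [hker', Ideal.mem_span_singleton] at h2
    rcases hirr.prime.dvd_or_dvd h2 with h3 | h3
    · left
      have h4 : g ∈ RingHom.ker (Phi (k := k) k' x y) := by
        rw [hker', Ideal.mem_span_singleton]; exact h3
      exact hcancel u _ hs (hg.trans h4)
    · right
      have h4 : j ∈ RingHom.ker (Phi (k := k) k' x y) := by
        rw [hker', Ideal.mem_span_singleton]; exact h3
      exact hcancel v _ ht (hj.trans h4)
  exact NoZeroDivisors.to_isDomain _

theorem isGeometric_of_model {x y : K} {f : MvPolynomial (Fin 2) k}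
    (hxy : IntermediateField.adjoin k ({x, y} : Set K) = ⊤)
    (hirr : ∀ (k' : Type u) [Field k'] [Algebra k k'], FiniteDimensional k k' →
          Irreducible (MvPolynomial.map (algebraMap k k') f))
    (hker : RingHom.ker (MvPolynomial.aeval ![x, y] : MvPolynomial (Fin 2) k →ₐ[k] K) =
      Ideal.span {f}) : IsGeometric k K := by
  intro k' _ _ hk'
  have h1 := isDomain_tensor hxy hker k' (hirr k' hk')
  have e := (Algebra.TensorProduct.comm k K k').toMulEquiv
  have h2 : IsDomain (K ⊗[k] k') := MulEquiv.isDomain (k' ⊗[k] K) e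
  exact MulEquiv.isField (K661.Geom.isField_of_isDomain k' h2) e.symm

theorem of_model {x y : K} {f : MvPolynomial (Fin 2) k}
    (hxy : IntermediateField.adjoin k ({x, y} : Set K) = ⊤)
    (hirr : ∀ (k' : Type u) [Field k'] [Algebra k k'], FiniteDimensional k k' →
          Irreducible (MvPolynomial.map (algebraMap k k') f))
    (hker : RingHom.ker (MvPolynomial.aeval ![x, y] : MvPolynomial (Fin 2) k →ₐ[k] K) =
      Ideal.span {f}) : IsFunctionField k K ∧ IsGeometric k K := by
  have hg := isGeometric_of_model hxy hirr hker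
  refine ⟨⟨?_, fun z hz => K661.Geom.mem_range_of_isAlgebraic hg hz⟩, hg⟩
  have hf : Irreducible f := by
    have := hirr k inferInstance
    rwa [Algebra.algebraMap_self, MvPolynomial.map_id] at this
  have hdep : ¬ AlgebraicIndependent k ![x, y] := by
    intro hind
    rw [algebraicIndependent_iff_injective_aeval] at hind
    have h1 : f ∈ RingHom.ker (MvPolynomial.aeval ![x, y] : MvPolynomial (Fin 2) k →ₐ[k] K) := by
      rw [hker]; exact Ideal.mem_span_singleton_self f
    rw [RingHom.mem_ker] at h1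
    exact hf.ne_zero (hind (h1.trans (map_zero _).symm))
  by_cases hx : Transcendental k x
  · have := isGen_of hx hdep hxy
    exact ⟨x, this.tr, this.fin⟩
  · have hx' : IsAlgebraic k x := not_not.1 hx
    have hy : Transcendental k y := fun hy => not_both hf hker hx' hy
    have hdep' : ¬ AlgebraicIndependent k ![y, x] := by
      intro h1
      apply hdep
      have h2 := h1.comp (![1, 0] : Fin 2 → Fin 2) (by decide)
      convert h2 using 1
      ext i
      fin_cases i <;> rfl
    have := isGen_of hy hdep' (by rw [Set.pair_comm]; exact hxy)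
    exact ⟨y, this.tr, this.fin⟩

end K661.PlaneModel
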