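import Groth.Agent.FunFld.K661.Scalar

/-!
# The two `k`-module structures on the residue field of a place

`Place.deg` uses the quotient module structure of `P.O ⧸ m`, while `Algebra k (ResidueField P.O)` is
`Place.algRes`. They agree, propositionally.
-/

set_option autoImplicit false
open WithZero FunFld K661.Place

namespace K661.Residue

variable {k K : Type*} [Field k] [Field K] [Algebra k K] (P : Place k K)

/-- The module structure coming from the algebra structure. -/
@[reducible] noncomputable def modAlg : Module k (IsLocalRing.ResidueField P.O) :=
  @Algebra.toModule k (IsLocalRing.ResidueField P.O) _ _ P.algRes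

theorem smul_eq (c : k) (x : IsLocalRing.ResidueField P.O) :
    c • x = algebraMap k (IsLocalRing.ResidueField P.O) c * x := by
  obtain ⟨y, rfl⟩ := IsLocalRing.residue_surjective x
  have h1 : c • IsLocalRing.residue P.O y = IsLocalRing.residue P.O (c • y) := rfl
  rw [h1, Algebra.smul_def, map_mul]
  rfl

theorem module_eq : (inferInstance : Module k (IsLocalRing.ResidueField P.O)) = modAlg P := by
  refine Module.ext' _ _ fun c x => ?_
  exact (smul_eq P c x).trans (@Algebra.smul_def _ _ _ _ P.algRes c x).symm

theorem finite_alg (h : FiniteDimensional k (IsLocalRing.ResidueField P.O)) :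
    @Module.Finite k (IsLocalRing.ResidueField P.O) _ _ (modAlg P) := by
  rw [← module_eq P]
  exact h

theorem finrank_alg : @Module.finrank k (IsLocalRing.ResidueField P.O) _ _ (modAlg P) = P.deg := by
  rw [← module_eq P]
  rfl

end K661.Residue
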