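import Groth.Agent.FunFld.K661.Scalar
import Groth.Agent.FunFld.K660.CrvFin
import Groth.Agent.FunFld.K660.Sep
import Mathlib.FieldTheory.SeparableClosure
import Mathlib.RingTheory.Localization.Integral

/-!
# Places with separable residue field

If `K/k(t)` is finite separable then for almost all places `P` at which `t` is integral and `t mod P` is
separable over `k`, the residue field of `P` is separable over `k`.
-/

set_option autoImplicit false
set_option linter.unusedSectionVars false
open WithZero Polynomial FunFld K660.Places K661.Scalar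

namespace K661.SepPlace

/-- A simple root is separable. -/
theorem isSeparable_of_root {S F : Type*} [Field S] [Field F] [Algebra S F] {x : F} {G : S[X]}
    (h0 : aeval x G = 0) (h1 : aeval x (derivative G) ≠ 0) : IsSeparable S x := by
  have hG : G ≠ 0 := by
    rintro rfl
    simp at h1
  have hint : IsIntegral S x := IsAlgebraic.isIntegral ⟨G, hG, h0⟩
  obtain ⟨q, hq⟩ := minpoly.dvd S x h0
  have h2 : derivative (minpoly S x) ≠ 0 := by
    intro h3
    apply h1
    rw [hq, derivative_mul, map_add, map_mul, map_mul, minpoly.aeval, h3, map_zero]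
    ring
  exact (separable_iff_derivative_ne_zero (minpoly.irreducible hint)).2 h2

variable {k K : Type*} [Field k] [Field K] [Algebra k K]

open scoped IntermediateField.algebraAdjoinAdjoin in
/-- An element separable over `k(t)` satisfies a polynomial equation over `k[t]` with nonzero
derivative. -/
theorem exists_poly {t : K} {e : K} (hsep : IsSeparable (IntermediateField.adjoin k {t}) e) :
    ∃ H : k[X][X], eval₂ (aeval t : k[X] →ₐ[k] K).toRingHom e H = 0 ∧
      eval₂ (aeval t : k[X] →ₐ[k] K).toRingHom e (derivative H) ≠ 0 := by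
  let A := Algebra.adjoin k {t}
  let F₀ := IntermediateField.adjoin k {t}
  let m : F₀[X] := minpoly F₀ e
  obtain ⟨b, hbm, hb⟩ := IsLocalization.integerNormalization_spec (nonZeroDivisors A) m
  -- lift to `k[X][X]`
  let f : k[X] →+* A := ((aeval (⟨t, Algebra.self_mem_adjoin_singleton k t⟩ : A)) :
    k[X] →ₐ[k] A).toRingHom
  have hf : ∀ p : k[X], (algebraMap A K (f p)) = aeval t p := by
    intro p
    have h1 : (aeval t : k[X] →ₐ[k] K) = A.val.comp (aeval (⟨t, Algebra.self_mem_adjoin_singleton k t⟩ : A)) := by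
      ext
      simp
    rw [h1]
    rfl
  have hfs : Function.Surjective f := by
    rintro ⟨x, hx⟩
    have h1 : x ∈ (aeval t : k[X] →ₐ[k] K).range := by
      rw [← Algebra.adjoin_singleton_eq_range_aeval]
      exact hx
    obtain ⟨p, hp⟩ := h1
    exact ⟨p, Subtype.ext ((hf p).trans hp)⟩
  obtain ⟨H, hH⟩ := Polynomial.map_surjective f hfs
    (IsLocalization.integerNormalization (nonZeroDivisors A) m)
  have key : ∀ p : F₀[X], p = (H.map f).map (algebraMap A F₀) →
      eval₂ (aeval t : k[X] →ₐ[k] K).toRingHom e H = aeval e p := by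
    rintro p rfl
    rw [aeval_map_algebraMap, aeval_def, eval₂_map]
    congr 1
    ext p
    · simp
      have := hf (C p)
      simp at this
      exact this.symm
    · simp
      have := hf X
      simp at this
      exact this.symm
  have key' : eval₂ (aeval t : k[X] →ₐ[k] K).toRingHom e (derivative H) =
      aeval e (derivative ((H.map f).map (algebraMap A F₀))) := by
    rw [derivative_map, derivative_map, aeval_map_algebraMap, aeval_def, eval₂_map]
    congr 1
    ext p
    · simp
      have := hf (C p)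
      simp at this
      exact this.symm
    · simp
      have := hf X
      simp at this
      exact this.symm
  have hmap : (H.map f).map (algebraMap A F₀) = C (algebraMap A F₀ b) * m := by
    rw [hH, hb, Algebra.smul_def]
    rfl
  have hb0 : algebraMap A K b ≠ 0 := by
    intro h
    have h1 : b = 0 := Subtype.ext h
    exact nonZeroDivisors.ne_zero hbm h1
  refine ⟨H, ?_, ?_⟩
  · rw [key _ rfl, hmap, map_mul, minpoly.aeval, mul_zero]
  · rw [key', hmap, derivative_C_mul, map_mul, aeval_C]
    refine mul_ne_zero hb0 ?_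
    exact hsep.aeval_derivative_ne_zero (minpoly.aeval F₀ e)

variable {F : Type*} [Field F] [Algebra k F]

/-- Separability of the residue field outside a finite set of places. -/
theorem isSeparable_residue {t : K} (P : Place k K) (ρ : P.O →ₐ[k] F)
    (hρ : Function.Surjective ρ) (hker : RingHom.ker ρ = IsLocalRing.maximalIdeal P.O)
    (hG : IsGen k K t) (ht : P.1 t ≤ 1) (s : Finset K) (hs1 : ∀ e ∈ s, P.1 e ≤ 1)
    (hs2 : ∀ a : K, IsIntegral (Algebra.adjoin k {t}) a →
        ∃ p : K → k[X], a = ∑ e ∈ s, aeval t (p e) * e) (H : K → k[X][X])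
    (hH0 : ∀ e ∈ s, eval₂ (aeval t : k[X] →ₐ[k] K).toRingHom e (H e) = 0)
    (hH1 : ∀ e ∈ s, P.1 (eval₂ (aeval t : k[X] →ₐ[k] K).toRingHom e (derivative (H e))) = 1)
    (g : k[X]) (hg : g.Separable) (hgP : P.1 (aeval t g) < 1) : Algebra.IsSeparable k F := by
  let τ : P.O := ⟨t, ht⟩
  have hρ0 : ∀ x : P.O, ρ x = 0 ↔ P.1 (x : K) < 1 := by
    intro x
    rw [← K661.Place.mem_maximalIdeal_iff, ← hker, RingHom.mem_ker]
  have hτ : ∀ p : k[X], ((aeval τ p : P.O) : K) = aeval t p := by
    intro p
    have h1 : (aeval t : k[X] →ₐ[k] K) = (inclO P).comp (aeval τ) := by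
      ext
      simp [τ]
    rw [h1]
    rfl
  let S := separableClosure k F
  have hτS : ρ τ ∈ S := by
    rw [mem_separableClosure_iff]
    refine hg.of_dvd (minpoly.dvd k _ ?_)
    rw [aeval_algHom_apply, hρ0, hτ]
    exact hgP
  let ψ : k[X] →ₐ[k] S := aeval (⟨ρ τ, hτS⟩ : S)
  have hψ : ∀ p : k[X], algebraMap S F (ψ p) = ρ (aeval τ p) := by
    intro p
    have h1 : (S.val).comp ψ = ρ.comp (aeval τ) := by
      ext
      simp [ψ]
    exact DFunLike.congr_fun h1 p
  -- the elements of `s`
  have hsS : ∀ (e : K) (he : e ∈ s), ρ ⟨e, hs1 e he⟩ ∈ S := by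
    intro e he
    have h2 : ∀ G : k[X][X], aeval (ρ ⟨e, hs1 e he⟩) (G.map (ψ : k[X] →+* S)) =
        ρ (eval₂ (aeval τ : k[X] →ₐ[k] P.O).toRingHom ⟨e, hs1 e he⟩ G) := by
      intro G
      have h5 := hom_eval₂ G (aeval τ : k[X] →ₐ[k] P.O).toRingHom ρ.toRingHom ⟨e, hs1 e he⟩
      have h6 : (algebraMap S F).comp (ψ : k[X] →+* S) =
          ρ.toRingHom.comp (aeval τ : k[X] →ₐ[k] P.O).toRingHom := RingHom.ext hψ
      rw [← h6, ← eval₂_map, ← aeval_def] at h5
      exact h5.symm
    have h3 : ∀ G : k[X][X], ((eval₂ (aeval τ : k[X] →ₐ[k] P.O).toRingHom ⟨e, hs1 e he⟩ G : P.O) : K)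
        = eval₂ (aeval t : k[X] →ₐ[k] K).toRingHom e G := by
      intro G
      have h5 := hom_eval₂ G (aeval τ : k[X] →ₐ[k] P.O).toRingHom P.O.subtype ⟨e, hs1 e he⟩
      have h6 : P.O.subtype.comp (aeval τ : k[X] →ₐ[k] P.O).toRingHom =
          (aeval t : k[X] →ₐ[k] K).toRingHom := RingHom.ext hτ
      rw [h6] at h5
      exact h5
    have h4 : IsSeparable S (ρ ⟨e, hs1 e he⟩) := by
      refine isSeparable_of_root (G := (H e).map (ψ : k[X] →+* S)) ?_ ?_
      · rw [h2, hρ0, h3, hH0 e he, map_zero]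
        exact zero_lt_one
      · rw [derivative_map, h2, Ne, hρ0, h3, hH1 e he]
        exact lt_irrefl _
    rw [mem_separableClosure_iff]
    exact IsSeparable.of_algebra_isSeparable_of_isSeparable k h4
  rw [← separableClosure.eq_top_iff, eq_top_iff]
  intro y _
  obtain ⟨⟨f, hf⟩, rfl⟩ := hρ y
  obtain ⟨a, ha, hfa⟩ := K660.CrvFin.exists_integral_approx hG P ht hf
  obtain ⟨p, hp⟩ := hs2 a ha
  have h7 : ρ ⟨f, hf⟩ = ρ (∑ e : s, aeval τ (p e) * ⟨(e : K), hs1 e e.2⟩) := by
    rw [← sub_eq_zero, ← map_sub, hρ0]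
    have h8 : ((∑ e : s, aeval τ (p e) * ⟨(e : K), hs1 e e.2⟩ : P.O) : K) = a := by
      rw [hp]
      have h9 := map_sum P.O.subtype (fun e : s => aeval τ (p e) * (⟨(e : K), hs1 e e.2⟩ : P.O))
        Finset.univ
      refine h9.trans ?_
      rw [← Finset.sum_coe_sort s (fun e => aeval t (p e) * e)]
      refine Finset.sum_congr rfl fun e _ => ?_
      rw [map_mul]
      congr 1
      exact hτ _
    change P.1 (f - ((∑ e : s, aeval τ (p e) * ⟨(e : K), hs1 e e.2⟩ : P.O) : K)) < 1
    rw [h8]
    exact hfa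
  rw [h7, map_sum]
  refine sum_mem fun e _ => ?_
  rw [map_mul]
  refine mul_mem ?_ (hsS e e.2)
  rw [← hψ]
  exact (ψ (p e)).2

end K661.SepPlace
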