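import Groth.Agent.FunFld.K661.OverInt
import Groth.Agent.FunFld.K661.Galois
import Groth.Agent.FunFld.K661.Residue

/-!
# Uniqueness of the place above `P` in a constant extension

`K' = k' ⊗ K`, `k'/k` finite; either `k'/k` or `F_P/k` purely inseparable.
-/

set_option autoImplicit false
set_option linter.unusedSectionVars false
open WithZero FunFld K661.Place K661.Scalar TensorProduct

namespace K661.Unique

section Gen

variable {k E K K' : Type*} [Field k] [Field E] [Field K] [Field K']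
  [Algebra k E] [Algebra k K] [Algebra K K'] [Algebra E K'] [Algebra k K']
  [IsScalarTower k E K'] [IsScalarTower k K K'] (P : Place k K)

theorem mapO_injective' (h : Function.Injective (mulMap k E K K')) :
    Function.Injective (mapO P E K') := by
  refine h.comp ?_
  exact Module.Flat.lTensor_preserves_injective_linearMap (inclO P).toLinearMap
    Subtype.val_injective

theorem exists_pow_mul_eq {π : P.O} (hπv : P.1 (π : K) = exp (-1 : ℤ)) (r : E ⊗[k] K) :
    ∃ (n : ℕ) (y : E ⊗[k] P.O), mapO P E K' y =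
      algebraMap K K' (π : K) ^ n * mulMap k E K K' r := by
  induction r using TensorProduct.induction_on with
  | zero => exact ⟨0, 0, by simp⟩
  | tmul a z =>
    by_cases hz : z = 0
    · exact ⟨0, 0, by simp [hz]⟩
    refine ⟨(-(P.ord z)).toNat, a ⊗ₜ ⟨(π : K) ^ (-(P.ord z)).toNat * z, ?_⟩, ?_⟩
    · rw [Valuation.mem_valuationSubring_iff, map_mul, map_pow, hπv, ← exp_nsmul,
        val_eq_exp P hz, ← exp_add, ← exp_zero, exp_le_exp, nsmul_eq_mul]
      have := Int.self_le_toNat (-(P.ord z))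
      omega
    · rw [mapO_tmul, mulMap_tmul]
      simp only [map_mul, map_pow]
      ring
  | add r s hr hs =>
    obtain ⟨n, y, hy⟩ := hr
    obtain ⟨m, w, hw⟩ := hs
    refine ⟨n + m, (1 ⊗ₜ π) ^ m * y + (1 ⊗ₜ π) ^ n * w, ?_⟩
    rw [map_add, map_mul, map_mul, hy, hw, map_pow, map_pow, mapO_tmul, map_one, one_mul, map_add]
    ring

/-- Elements of `E ⊗ P.O` are integral at the places above `P`. -/
theorem val_mapO_le [Algebra.IsAlgebraic k E] {Q : Place k K'} (hQ : IsOver Q P)
    (y : E ⊗[k] P.O) : Q.1 (mapO P E K' y) ≤ 1 := by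
  induction y using TensorProduct.induction_on with
  | zero => rw [map_zero, map_zero]; exact zero_le
  | add r s hr hs =>
    rw [map_add]
    exact (Q.1.map_add _ _).trans (max_le hr hs)
  | tmul a x =>
    rw [mapO_tmul, map_mul]
    refine mul_le_one' ?_ ((val_algebraMap_le_one_iff hQ _).2 x.2)
    refine mem_of_isIntegral (R := k) Q.O (fun c => Q.2.1 c) ?_
    exact (Algebra.IsIntegral.isIntegral (R := k) a).algebraMap

variable {F : Type*} [Field F] [Algebra k F] (ρ : P.O →ₐ[k] F)

theorem val_eq_one_of_redO_ne_zero [Algebra.IsAlgebraic k E] (hρ : Function.Surjective ρ) {π : P.O}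
    (hπ : RingHom.ker ρ = Ideal.span {π}) (hπv : P.1 (π : K) = exp (-1 : ℤ))
    (hunit : ∀ t : E ⊗[k] F, t ≠ 0 → IsUnit t)
    {Q : Place k K'} (hQ : IsOver Q P) {y : E ⊗[k] P.O} (hy : redO P ρ E y ≠ 0) :
    Q.1 (mapO P E K' y) = 1 := by
  obtain ⟨t, ht⟩ := (hunit _ hy).exists_right_inv
  obtain ⟨y', rfl⟩ := redO_surjective (k' := E) P ρ hρ t
  have h1 : redO P ρ E (y * y' - 1) = 0 := by
    rw [map_sub, map_mul, ht, map_one, sub_self]
  obtain ⟨z, hz⟩ := ker_redO P ρ hρ hπ h1
  have h2 : mapO P E K' y * mapO P E K' y' = 1 + algebraMap K K' (π : K) * mapO P E K' z := by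
    have h3 := congrArg (mapO P E K') hz
    rw [map_sub, map_mul, map_one, map_mul, mapO_tmul, map_one, one_mul] at h3
    rw [← h3]
    ring
  have h4 : Q.1 (algebraMap K K' (π : K) * mapO P E K' z) < 1 := by
    rw [map_mul]
    refine mul_lt_one_of_lt_of_le ?_ (val_mapO_le P hQ z)
    rw [val_algebraMap_lt_one_iff hQ, hπv, ← exp_zero, exp_lt_exp]
    omega
  have h5 : Q.1 (mapO P E K' y * mapO P E K' y') = 1 := by
    rw [h2]
    have h6 := Valuation.map_add_eq_of_lt_right Q.1
      (x := algebraMap K K' (π : K) * mapO P E K' z) (y := (1 : K')) (by rw [map_one]; exact h4)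
    rw [add_comm, h6, map_one]
  rw [map_mul] at h5
  refine le_antisymm (val_mapO_le P hQ y) ?_
  by_contra h6
  rw [not_le] at h6
  have h7 := mul_lt_one_of_lt_of_le h6 (val_mapO_le P hQ y')
  rw [h5] at h7
  exact lt_irrefl _ h7

/-- Extraction of powers of `π`. -/
theorem exists_pow_mul_redO_ne_zero [Algebra.IsAlgebraic k E] (hρ : Function.Surjective ρ)
    {π : P.O} (hπ : RingHom.ker ρ = Ideal.span {π}) (hπv : P.1 (π : K) = exp (-1 : ℤ))
    {Q : Place k K'} (hQ : IsOver Q P) (y : E ⊗[k] P.O) (hy : mapO P E K' y ≠ 0) :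
    ∃ (j : ℕ) (y' : E ⊗[k] P.O), redO P ρ E y' ≠ 0 ∧
      mapO P E K' y = algebraMap K K' (π : K) ^ j * mapO P E K' y' := by
  obtain ⟨m, hm⟩ : ∃ m : ℕ, (Q.ord (mapO P E K' y)).toNat = m := ⟨_, rfl⟩
  induction m using Nat.strong_induction_on generalizing y with
  | _ m ih =>
    by_cases h0 : redO P ρ E y = 0
    · obtain ⟨z, hz⟩ := ker_redO P ρ hρ hπ h0
      have h1 : mapO P E K' y = algebraMap K K' (π : K) * mapO P E K' z := by
        rw [hz, map_mul, mapO_tmul, map_one, one_mul]
      have hz0 : mapO P E K' z ≠ 0 := by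
        intro h
        rw [h1, h, mul_zero] at hy
        exact hy rfl
      have hπ0 : algebraMap K K' (π : K) ≠ 0 := by
        intro h
        rw [h1, h, zero_mul] at hy
        exact hy rfl
      have hord : Q.ord (mapO P E K' y) = ramIdx Q P + Q.ord (mapO P E K' z) := by
        have h2 : Q.ord (algebraMap K K' (π : K)) = ramIdx Q P := by
          rw [ord_algebraMap hQ, Place.ord, hπv, log_exp]
          ring
        rw [h1, ← h2]
        simp only [Place.ord]
        rw [map_mul, log_mul (val_ne_zero Q hπ0) (val_ne_zero Q hz0)]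
        ring
      have hz1 : 0 ≤ Q.ord (mapO P E K' z) := by
        have := val_mapO_le P hQ z
        rw [val_eq_exp Q hz0, ← exp_zero, exp_le_exp] at this
        omega
      have hr := ramIdx_pos hQ
      obtain ⟨j, y', hy', hyj⟩ := ih (Q.ord (mapO P E K' z)).toNat (by omega) z hz0 rfl
      refine ⟨j + 1, y', hy', ?_⟩
      rw [h1, hyj]
      ring
    · exact ⟨0, y, h0, by rw [pow_zero, one_mul]⟩

theorem val_mulMap_le_one_iff [Algebra.IsAlgebraic k E] (hρ : Function.Surjective ρ)
    (hker : RingHom.ker ρ = IsLocalRing.maximalIdeal P.O)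
    (hunit : ∀ t : E ⊗[k] F, t ≠ 0 → IsUnit t)
    {Q₁ Q₂ : Place k K'} (hQ₁ : IsOver Q₁ P) (hQ₂ : IsOver Q₂ P) (r : E ⊗[k] K) :
    Q₁.1 (mulMap k E K K' r) ≤ 1 ↔ Q₂.1 (mulMap k E K K' r) ≤ 1 := by
  obtain ⟨π, hπ, hπv⟩ := exists_pi P
  have hπ0 : (π : K) ≠ 0 := by
    intro h0
    rw [h0, map_zero] at hπv
    exact exp_ne_zero hπv.symm
  by_cases hr : mulMap k E K K' r = 0
  · rw [hr, map_zero, map_zero]
  obtain ⟨n, y, hy⟩ := exists_pow_mul_eq (K' := K') P hπv r
  have hy0 : mapO P E K' y ≠ 0 := by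
    rw [hy]
    exact mul_ne_zero (pow_ne_zero _ (by simpa using hπ0)) hr
  obtain ⟨j, y', hy', hyj⟩ := exists_pow_mul_redO_ne_zero P ρ hρ (hker.trans hπ) hπv hQ₁ y hy0
  have key : ∀ Q : Place k K', IsOver Q P →
      (Q.1 (mulMap k E K K' r) ≤ 1 ↔ n ≤ j) := by
    intro Q hQ
    have h1 := val_eq_one_of_redO_ne_zero P ρ hρ (hker.trans hπ) hπv hunit hQ hy'
    have h2 : Q.1 (algebraMap K K' (π : K)) = exp (-(ramIdx Q P : ℤ)) := by
      rw [val_algebraMap hQ, hπv, ← exp_nsmul]
      congr 1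
      simp
    have h3 : mulMap k E K K' r = algebraMap K K' (π : K) ^ j * mapO P E K' y' /
        algebraMap K K' (π : K) ^ n := by
      rw [← hyj, hy, mul_div_cancel_left₀ _ (pow_ne_zero _ (by simpa using hπ0))]
    rw [h3, map_div₀, map_mul, map_pow, map_pow, h1, mul_one, h2, ← exp_nsmul, ← exp_nsmul,
      ← exp_sub, ← exp_zero, exp_le_exp]
    simp only [nsmul_eq_mul, mul_neg]
    have hr := ramIdx_pos hQ
    constructor
    · intro h4
      have h5 : (n : ℤ) * (ramIdx Q P : ℤ) ≤ (j : ℤ) * (ramIdx Q P : ℤ) := by linarith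
      have h6 : (n : ℤ) ≤ j := le_of_mul_le_mul_right h5 (by omega)
      exact_mod_cast h6
    · intro h4
      have h5 : (n : ℤ) ≤ j := by exact_mod_cast h4
      have h6 : (n : ℤ) * (ramIdx Q P : ℤ) ≤ (j : ℤ) * (ramIdx Q P : ℤ) :=
        mul_le_mul_of_nonneg_right h5 (by positivity)
      linarith
  rw [key Q₁ hQ₁, key Q₂ hQ₂]

end Gen

section Field

/-- `E ⊗ F` with `E/k` finite separable and `F/k` purely inseparable: nonzero elements are units. -/
theorem isUnit_of_ne_zero (k E F : Type*) [Field k] [Field E] [Field F] [Algebra k E] [Algebra k F]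
    [FiniteDimensional k E] [Algebra.IsSeparable k E] [IsPurelyInseparable k F]
    (t : E ⊗[k] F) (ht : t ≠ 0) : IsUnit t := by
  have hred := isReduced_left k E F
  have hqT : ExpChar (E ⊗[k] F) (ringExpChar k) :=
    expChar_of_injective_algebraMap (algebraMap k (E ⊗[k] F)).injective (ringExpChar k)
  have hpow : ∀ z : E ⊗[k] F, ∃ n : ℕ, ∃ a : E, a ⊗ₜ[k] (1 : F) = z ^ (ringExpChar k) ^ n := by
    intro z
    induction z using TensorProduct.induction_on with
    | zero =>
      refine ⟨0, 0, ?_⟩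
      rw [TensorProduct.zero_tmul, pow_zero, pow_one]
    | tmul a b =>
      obtain ⟨n, c, hc⟩ := IsPurelyInseparable.pow_mem k (ringExpChar k) b
      refine ⟨n, c • a ^ (ringExpChar k) ^ n, ?_⟩
      rw [Algebra.TensorProduct.tmul_pow, ← hc, TensorProduct.smul_tmul, Algebra.smul_def, mul_one]
    | add a b ha hb =>
      obtain ⟨n, y, hy⟩ := ha
      obtain ⟨m, w, hw⟩ := hb
      refine ⟨n + m, y ^ (ringExpChar k) ^ m + w ^ (ringExpChar k) ^ n, ?_⟩
      rw [add_pow_expChar_pow, TensorProduct.add_tmul]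
      have h1 : ∀ (u : E) (N : ℕ), (u ^ N) ⊗ₜ[k] (1 : F) = (u ⊗ₜ[k] (1 : F)) ^ N := by
        intro u N
        rw [Algebra.TensorProduct.tmul_pow, one_pow]
      rw [h1, h1, hy, hw, ← pow_mul, ← pow_mul, ← pow_add, ← pow_add, add_comm m n]
  obtain ⟨n, a, ha⟩ := hpow t
  have ha0 : a ≠ 0 := by
    rintro rfl
    rw [TensorProduct.zero_tmul] at ha
    exact ht (IsNilpotent.eq_zero ⟨_, ha.symm⟩)
  have h1 : IsUnit (t ^ (ringExpChar k) ^ n) := by
    rw [← ha]
    have h2 : IsUnit a := isUnit_iff_ne_zero.2 ha0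
    exact h2.map (Algebra.TensorProduct.includeLeft : E →ₐ[k] E ⊗[k] F)
  exact (isUnit_pow_iff (pow_ne_zero _ (expChar_pos k (ringExpChar k)).ne')).1 h1

end Field

section Main

variable {k k' K K' : Type*} [Field k] [Field k'] [Field K] [Field K']
  [Algebra k k'] [Algebra k K] [Algebra K K'] [Algebra k' K'] [Algebra k K']
  [IsScalarTower k k' K'] [IsScalarTower k K K']

theorem pow_mem_range (E : Type*) [Field E] [Algebra k E] [Algebra E k'] [IsScalarTower k E k']
    [Algebra E K'] [IsScalarTower E k' K'] [IsScalarTower k E K'] [IsPurelyInseparable E k']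
    (h : Function.Bijective (mulMap k k' K K')) (x : K') :
    ∃ (n : ℕ) (r : E ⊗[k] K), mulMap k E K K' r = x ^ (ringExpChar k) ^ n := by
  have hqE : ExpChar E (ringExpChar k) :=
    expChar_of_injective_algebraMap (algebraMap k E).injective (ringExpChar k)
  have hqT : ExpChar K' (ringExpChar k) :=
    expChar_of_injective_algebraMap (algebraMap k K').injective (ringExpChar k)
  have hqET : ExpChar (E ⊗[k] K) (ringExpChar k) :=
    expChar_of_injective_algebraMap (algebraMap k (E ⊗[k] K)).injective (ringExpChar k)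
  obtain ⟨z, rfl⟩ := h.2 x
  induction z using TensorProduct.induction_on with
  | zero => exact ⟨0, 0, by simp⟩
  | tmul a b =>
    obtain ⟨n, c, hc⟩ := IsPurelyInseparable.pow_mem E (ringExpChar k) a
    refine ⟨n, c ⊗ₜ (b ^ (ringExpChar k) ^ n), ?_⟩
    rw [mulMap_tmul, mulMap_tmul, mul_pow, ← map_pow, ← map_pow, ← hc,
      ← IsScalarTower.algebraMap_apply E k' K']
  | add a b ha hb =>
    obtain ⟨n, y, hy⟩ := ha
    obtain ⟨m, w, hw⟩ := hb
    refine ⟨n + m, y ^ (ringExpChar k) ^ m + w ^ (ringExpChar k) ^ n, ?_⟩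
    rw [map_add (mulMap k k' K K'), add_pow_expChar_pow, map_add, map_pow, map_pow, hy, hw,
      ← pow_mul, ← pow_mul, ← pow_add, ← pow_add, add_comm m n]

theorem isPurelyInseparable [IsPurelyInseparable k k']
    (h : Function.Bijective (mulMap k k' K K')) : IsPurelyInseparable K K' := by
  have hqK : ExpChar K (ringExpChar k) :=
    expChar_of_injective_algebraMap (algebraMap k K).injective (ringExpChar k)
  rw [isPurelyInseparable_iff_pow_mem K (ringExpChar k)]
  intro x
  obtain ⟨n, r, hr⟩ := pow_mem_range (K := K) k h x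
  refine ⟨n, Algebra.TensorProduct.lid k K r, ?_⟩
  rw [← hr]
  have h1 : (IsScalarTower.toAlgHom k K K').comp
      (Algebra.TensorProduct.lid k K).toAlgHom = mulMap k k K K' := by
    ext y
    simp
  exact DFunLike.congr_fun h1 r

/-- Uniqueness of the place above `P`. -/
theorem eq_of_isOver [FiniteDimensional k k'] (h : Function.Bijective (mulMap k k' K K'))
    (P : Place k K) {F : Type*} [Field F] [Algebra k F] (ρ : P.O →ₐ[k] F)
    (hρ : Function.Surjective ρ) (hker : RingHom.ker ρ = IsLocalRing.maximalIdeal P.O)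
    [IsPurelyInseparable k F] {Q₁ Q₂ : Place k K'} (hQ₁ : IsOver Q₁ P) (hQ₂ : IsOver Q₂ P) :
    Q₁ = Q₂ := by
  have h2 : IsScalarTower k (separableClosure k k') K' := IsScalarTower.of_algebraMap_eq fun c => by
    rw [IsScalarTower.algebraMap_apply k k' K']
    rfl
  refine ext_le fun x => ?_
  obtain ⟨n, r, hr⟩ := pow_mem_range (K := K) (separableClosure k k') h x
  have h0 : (ringExpChar k) ^ n ≠ 0 := pow_ne_zero _ (expChar_pos k (ringExpChar k)).ne'
  have h3 := val_mulMap_le_one_iff (E := separableClosure k k') P ρ hρ hker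
    (isUnit_of_ne_zero k (separableClosure k k') F) hQ₁ hQ₂ r
  rwa [hr, map_pow, map_pow, pow_le_one_iff h0, pow_le_one_iff h0] at h3

end Main

end K661.Unique
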